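import Cfsg.Agent.Lib.TwistedStr.WeylF4
import Mathlib.GroupTheory.QuotientGroup.Basic
import Mathlib.Tactic.Group

/-!
# The twisted Weyl group of type `²F₄` as a dihedral group of order sixteen
-/

set_option autoImplicit false

namespace CfsgLib.LargeReeMult

open Cfsg.Lie CfsgLib.ChevStr CfsgLib.Twisted

/-- The words in two generators that represent a dihedral group of order sixteen. -/
def dihWord {G : Type*} [Monoid G] (a b : G) (k : ℕ) (f : Bool) : G :=
  (a * b) ^ k * if f then a else 1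

theorem map_dihWord {G H : Type*} [Monoid G] [Monoid H] (φ : G →* H) (a b : G) (k : ℕ) (f : Bool) :
    φ (dihWord a b k f) = dihWord (φ a) (φ b) k f := by
  cases f <;> simp [dihWord]

theorem dih_left {G : Type*} [Group G] {a b : G} (ha : a * a = 1) (hb : b * b = 1)
    (h8 : (a * b) ^ 8 = 1) (k : ℕ) (hk : k < 8) (f : Bool) :
    (∃ k' < 8, ∃ f', a * dihWord a b k f = dihWord a b k' f') ∧
      ∃ k' < 8, ∃ f', b * dihWord a b k f = dihWord a b k' f' := by
  set c := a * b
  have hinv : c⁻¹ = b * a := inv_eq_of_mul_eq_one_right (by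
    show a * b * (b * a) = 1
    rw [show a * b * (b * a) = a * (b * b) * a by group, hb, mul_one, ha])
  have h8' : ∀ n : ℕ, c ^ n = c ^ (n % 8) := fun n => by
    conv_lhs => rw [← Nat.div_add_mod n 8, pow_add, pow_mul, h8, one_pow, one_mul]
  have hac : ∀ n : ℕ, a * c ^ n = (c⁻¹) ^ n * a := fun n => by
    induction n with
    | zero => simp
    | succ n ih =>
      have h1 : a * c = c⁻¹ * a := by
        rw [hinv]; show a * (a * b) = _
        rw [← mul_assoc, ha, one_mul, mul_assoc b a a, ha, mul_one]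
      calc a * c ^ (n + 1) = a * c ^ n * c := by rw [pow_succ, mul_assoc]
        _ = (c⁻¹) ^ n * (a * c) := by rw [ih, mul_assoc]
        _ = _ := by rw [h1, pow_succ, mul_assoc]
  have hpos : ∀ n : ℕ, n ≤ 8 → (c⁻¹) ^ n = c ^ (8 - n) := fun n hn => by
    rw [inv_pow, inv_eq_iff_mul_eq_one, ← pow_add, show n + (8 - n) = 8 by omega, h8]
  have hba : b = c⁻¹ * a := by
    rw [hinv, mul_assoc, ha, mul_one]
  refine ⟨⟨(8 - k) % 8, Nat.mod_lt _ (by norm_num), !f, ?_⟩,
    ⟨(8 - (k + 1)) % 8, Nat.mod_lt _ (by norm_num), !f, ?_⟩⟩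
  · rw [dihWord, dihWord, ← mul_assoc, hac, hpos k hk.le, ← h8']
    cases f <;> simp [mul_assoc, ha]
  · rw [dihWord, dihWord, ← mul_assoc, show b * c ^ k = c⁻¹ * a * c ^ k by rw [← hba],
      mul_assoc c⁻¹, hac, ← mul_assoc c⁻¹, ← pow_succ',
      hpos (k + 1) hk, ← h8']
    cases f <;> simp [mul_assoc, ha]

/-- The permutation of the roots of a twisted fundamental reflection. -/
def twPerm (i : Fin 2) : Equiv.Perm (Fin chevF4.nroots) := reflDataF4.wordPerm (f4TwistWord i)

/-- The permutation of the roots of a word. -/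
def dihPerm (k : ℕ) (f : Bool) : Equiv.Perm (Fin chevF4.nroots) := dihWord (twPerm 0) (twPerm 1) k f

theorem dihPerm_ne_one : ∀ k : Fin 8, ∀ f : Bool, (∀ r, dihPerm k f r = r) → (k : ℕ) = 0 ∧ f = false := by
  decide +kernel

theorem dih_dichotomy : ∀ k : Fin 8, ∀ f : Bool, ∀ i : Fin 2,
    (∀ s : Fin chevF4.nroots, (dihPerm k f s : ℕ) ∈ rootsF4 i → chevF4.IsPosRoot s) ∨
      ∀ s : Fin chevF4.nroots, ((twPerm i * dihPerm k f : Equiv.Perm _) s : ℕ) ∈ rootsF4 i →
        chevF4.IsPosRoot s := by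
  decide +kernel

/-- The permutation of an element commuting with the first reflection. -/
def centPerm : Equiv.Perm (Fin chevF4.nroots) := (twPerm 1 * twPerm 0) ^ 3 * twPerm 1

theorem centPerm_facts : (∀ r : Fin chevF4.nroots, chevF4.IsPosRoot r → SuppIn rootDataF4 (nodesF4 0) r →
      chevF4.IsPosRoot (centPerm r) ∧ SuppIn rootDataF4 (nodesF4 0) (centPerm r)) ∧
    (∀ r : Fin chevF4.nroots, chevF4.IsNegRoot r → SuppIn rootDataF4 (nodesF4 0) r →
      chevF4.IsNegRoot (centPerm r) ∧ SuppIn rootDataF4 (nodesF4 0) (centPerm r)) ∧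
    ∀ r, centPerm (twPerm 0 r) = twPerm 0 (centPerm r) := by
  decide +kernel

end CfsgLib.LargeReeMult
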