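import Cfsg.Agent.Lib.LargeReeMult.Levi
import Cfsg.Agent.Lib.SuzukiGroup.Multiplier

/-!
# Faithful images of the Levi groups of `²F₄(q)` in `SL₂(q)` and in the Suzuki group
-/

set_option autoImplicit false

namespace CfsgLib.LargeReeMult

open Cfsg.Lie CfsgLib.ChevStr CfsgLib.Twisted CfsgLib.LargeReeAut CfsgLib.TwistAut
open scoped MatrixGroups Matrix

variable {K : Type*} [Field K] [Fintype K] [CharP K 2] {m : ℕ}
  (hn : Fintype.card K = 2 * (2 ^ m * 2 ^ m))

omit [Fintype K] [CharP K 2] in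
theorem xGL_deg0_of (i : Fin 2) {r : ℕ} (hr : SuppIn (coreF4 K).R (orbF4.J i) r) (t : K) :
    (coreF4 K).xGL r t ∈ deg0Sub (coreF4 K) (orbF4.J i) := xGL_deg0 (coreF4 K) _ hr t

theorem supp_facts : (∀ r ∈ [f4p1, f4p4, f4m1, f4m4], SuppIn rootDataF4 (nodesF4 0) r) ∧
    (∀ r ∈ [f4a, f4b, f4ab, f4aab, f4ma, f4mb, f4mab, f4maab], SuppIn rootDataF4 (nodesF4 1) r) := by
  decide +kernel

/-- The block of an element of a Levi group. -/
def blk {k : ℕ} (e : Fin k → chevF4.Idx) (g : GL chevF4.Idx K) : Matrix (Fin k) (Fin k) K :=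
  (g : Matrix chevF4.Idx chevF4.Idx K).submatrix e e

omit [Fintype K] [CharP K 2] in
theorem blk0_mul {g h : GL chevF4.Idx K} (hg : g ∈ deg0Sub (coreF4 K) (orbF4.J 0)) :
    blk blockIdx0 (g * h) = blk blockIdx0 g * blk blockIdx0 h :=
  submatrix_mul (coreF4 K) _ blockIdx_facts.1 blockIdx_facts.2.2.1 hg

omit [Fintype K] [CharP K 2] in
theorem blk1_mul {g h : GL chevF4.Idx K} (hg : g ∈ deg0Sub (coreF4 K) (orbF4.J 1)) :
    blk blockIdx1 (g * h) = blk blockIdx1 g * blk blockIdx1 h :=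
  submatrix_mul (coreF4 K) _ blockIdx_facts.2.1 blockIdx_facts.2.2.2 hg

omit [Fintype K] [CharP K 2] in
theorem blk0_Pt (t : K) : blk blockIdx0 (Pt K m t) = !![1, t; 0, 1] := by
  rw [Pt_eq, blk0_mul (xGL_deg0_of 0 (supp_facts.1 f4p1 (by simp)) _)]
  simp only [blk, ChevCore.coe_xGL, (block0_x (K := K) _).1, (block0_x (K := K) _).2.2.1, one_mul]

omit [Fintype K] [CharP K 2] in
theorem blk0_neg : blk blockIdx0 ((coreF4 K).wordGL (f4PairWord (2 ^ m) f4m1 f4m4 (1 : K))) =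
    !![1, 0; 1, 1] := by
  simp only [f4PairWord, ChevCore.wordGL_cons, ChevCore.wordGL_nil, mul_one]
  rw [blk0_mul (xGL_deg0_of 0 (supp_facts.1 f4m1 (by simp)) _)]
  simp only [blk, ChevCore.coe_xGL, (block0_x (K := K) _).2.1, (block0_x (K := K) _).2.2.2, one_mul]

variable (P : CfsgLib.SuzukiGroup.Params K (2 ^ (m + 1)))

include hn in
theorem blk1_Bt (t u : K) :
    blk blockIdx1 (Bt K m t u) = CfsgLib.SuzukiGroup.uMat P.θ (t ^ 2 ^ m) u := by
  have h := fun r hr (s : K) => xGL_deg0_of (K := K) 1 (supp_facts.2 r hr) s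
  rw [Bt_eq, blk1_mul (mul_mem (h f4a (by simp) _) (h f4b (by simp) _)), blk1_mul (h f4a (by simp) _),
    blk1_mul (h f4ab (by simp) _)]
  simp only [blk, ChevCore.coe_xGL, (block1_x (K := K) _).1, (block1_x (K := K) _).2.1,
    (block1_x (K := K) _).2.2.1, (block1_x (K := K) _).2.2.2.1]
  have hθ : P.θ (t ^ 2 ^ m) = t := by
    rw [P.pow_eq, ← pow_mul, show 2 ^ m * 2 ^ (m + 1) = 2 * (2 ^ m * 2 ^ m) by ring, pow_two_sq hn]
  have hu : P.θ u = u ^ (2 * 2 ^ m) := by rw [P.pow_eq, pow_succ']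
  have h2 : (2 : K) = 0 := CharTwo.two_eq_zero
  ext i j
  fin_cases i <;> fin_cases j <;>
    simp [Matrix.mul_apply, Fin.sum_univ_four, CfsgLib.SuzukiGroup.uMat, hθ, hu, pow_succ] <;>
    first
    | ring1
    | linear_combination (t ^ 2 ^ m * t) * h2

omit [Fintype K] in
theorem blk1_neg :
    blk blockIdx1 ((coreF4 K).wordGL (b2ClassWord (2 ^ m) f4ma f4mb f4mab f4maab (1 : K) 0)) =
      CfsgLib.SuzukiGroup.jMat * CfsgLib.SuzukiGroup.uMat P.θ 1 0 * CfsgLib.SuzukiGroup.jMat := by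
  have h := fun r hr (s : K) => xGL_deg0_of (K := K) 1 (supp_facts.2 r hr) s
  simp only [b2ClassWord, ChevCore.wordGL_cons, ChevCore.wordGL_nil, mul_one, one_pow, add_zero]
  rw [blk1_mul (h f4ma (by simp) _), blk1_mul (h f4mb (by simp) _), blk1_mul (h f4mab (by simp) _)]
  simp only [blk, ChevCore.coe_xGL, (block1_x (K := K) _).2.2.2.2.1, (block1_x (K := K) _).2.2.2.2.2.1,
    (block1_x (K := K) _).2.2.2.2.2.2.1, (block1_x (K := K) _).2.2.2.2.2.2.2]
  have h0 : ((0 : K) ^ (2 * 2 ^ m)) = 0 := zero_pow (by positivity)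
  ext i j
  fin_cases i <;> fin_cases j <;>
    simp [Matrix.mul_apply, Fin.sum_univ_four, CfsgLib.SuzukiGroup.uMat, CfsgLib.SuzukiGroup.jMat, h0,
      CharTwo.add_self_eq_zero]

include hn

/-- An element of the negative orbit group with a known block. -/
theorem exists_neg0 : ∃ v ∈ negX K m 0, blk blockIdx0 v = !![1, 0; 1, 1] :=
  ⟨_, Subgroup.mem_inf.2 ⟨(coreF4 K).wordGL_mem_Ucl (fun p hp => by
    refine levi_neg_roots.1 p.1 ?_
    simp only [f4PairWord, List.mem_cons, List.not_mem_nil, or_false] at hp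
    rcases hp with rfl | rfl <;> simp),
    le_fixedF4 K hn ((coreF4 K).wordGL_mem_gen (W := f4Words K (2 ^ m)) (Or.inl ⟨1, Or.inr rfl⟩))⟩,
    blk0_neg⟩

theorem exists_neg1 : ∃ v ∈ negX K m 1, blk blockIdx1 v =
    CfsgLib.SuzukiGroup.jMat * CfsgLib.SuzukiGroup.uMat P.θ 1 0 * CfsgLib.SuzukiGroup.jMat :=
  ⟨_, Subgroup.mem_inf.2 ⟨(coreF4 K).wordGL_mem_Ucl (fun p hp => by
    refine levi_neg_roots.2 p.1 ?_
    simp only [b2ClassWord, List.mem_cons, List.not_mem_nil, or_false] at hp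
    rcases hp with rfl | rfl | rfl | rfl <;> simp),
    le_fixedF4 K hn ((coreF4 K).wordGL_mem_gen (W := f4Words K (2 ^ m)) (Or.inr ⟨1, 0, Or.inr rfl⟩))⟩,
    blk1_neg P⟩

/-- A block representation of a Levi group is faithful. -/
theorem blk_faithful (i : Fin 2) {k : ℕ} {e : Fin k → chevF4.Idx}
    (hmul : ∀ g h : GL chevF4.Idx K, g ∈ deg0Sub (coreF4 K) (orbF4.J i) →
      blk e (g * h) = blk e g * blk e h)
    (fst lst : Fin k) (hlt : fst < lst) {r r' : Fin chevF4.nroots} (hfst : e fst = Sum.inr r)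
    (hlst : e lst = Sum.inr r') (hw : reflDataF4.wordPerm (f4TwistWord i) r = r')
    (hinj : Function.Injective e)
    (hut : ∀ y ∈ posX K m i, (blk e y).BlockTriangular id ∧ ∀ j, blk e y j j = 1)
    (hone : ∀ y ∈ posX K m i, blk e y = 1 → y = 1)
    (htor : ∀ c, (coreF4 K).R.torus c ∈ twistedF4 K (2 ^ m) →
      (∀ j, (coreF4 K).R.torusChar c ((coreF4 K).R.wt (e j)) = 1) → (coreF4 K).R.torus c = 1) :
    ∀ x ∈ leviGrp K m i, blk e x = 1 → x = 1 := by
  have hdiag : ∀ h ∈ tor (twistedF4 K (2 ^ m)), ∃ c, h = (coreF4 K).R.torus c ∧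
      blk e h = Matrix.diagonal fun j => ((coreF4 K).R.torusChar c ((coreF4 K).R.wt (e j)) : K) := by
    intro h hh
    obtain ⟨c, rfl⟩ : h ∈ (coreF4 K).R.torus.range := (coreF4 K).diagonalSubgroup_eq ▸ hh.1
    exact ⟨c, rfl, by rw [blk, RootData.coe_torus, Matrix.submatrix_diagonal _ _ hinj]; rfl⟩
  intro x hx h1
  rcases levi_cases hn i hx with ⟨y, hy, h, hh, rfl⟩ | ⟨y, hy, h, hh, t, ht, rfl⟩
  · obtain ⟨c, rfl, hd⟩ := hdiag h hh
    rw [hmul _ _ (posX_deg0 i hy), hd] at h1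
    have hχ : ∀ j, (coreF4 K).R.torusChar c ((coreF4 K).R.wt (e j)) = 1 := fun j => by
      have h2 := congrFun (congrFun h1 j) j
      rw [Matrix.mul_diagonal, (hut y hy).2, one_mul, Matrix.one_apply_eq] at h2
      exact Units.ext h2
    have hc := htor c hh.2 hχ
    simp only [hχ, Units.val_one, Matrix.diagonal_one, mul_one] at h1
    rw [hone y hy h1, hc, one_mul]
  · exfalso
    obtain ⟨c, rfl, hd⟩ := hdiag h hh
    obtain ⟨c', hc', hd'⟩ := hdiag _ (inv_mem hh)
    set s := (gensF4 K hn).s i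
    have hyd := posX_deg0 i hy
    have hhd := tor_deg0 (C := coreF4 K) (orbF4.J i) hh.1
    have hsd : s ∈ deg0Sub (coreF4 K) (orbF4.J i) := monomial_deg0 (coreF4 K) _
      ((gensF4 K hn).s_mem_N i) ((gensF4 K hn).s_moves i) ((gensF4 K hn).wJ_mem i)
    set x := y * (coreF4 K).R.torus c * s * t
    have hxd : x ∈ deg0Sub (coreF4 K) (orbF4.J i) := leviGrp_deg0 i hx
    have e0 : blk e s = blk e ((coreF4 K).R.torus c)⁻¹ * blk e y⁻¹ * blk e t⁻¹ := by
      have e1 : s = ((coreF4 K).R.torus c)⁻¹ * y⁻¹ * (x * t⁻¹) := by simp only [x]; group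
      rw [e1, hmul _ _ (mul_mem (inv_mem hhd) (inv_mem hyd)), hmul _ _ hxd, h1, one_mul,
        hmul _ _ (inv_mem hhd)]
    have htri : (blk e s).BlockTriangular id := by
      rw [e0, hd']
      exact ((Matrix.blockTriangular_diagonal _).mul (hut _ (inv_mem hy)).1).mul
        (hut _ (inv_mem ht)).1
    obtain ⟨w', hw', hsh⟩ := (coreF4 K).exists_shaped ((gensF4 K hn).s_mem_N i)
    have hwJ : (gensF4 K hn).wJ i = reflDataF4.wordPerm (f4TwistWord i) :=
      (gensF4 K hn).wJ_eq i ((reflDataF4.weylSub _).list_prod_mem fun y hy => by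
        obtain ⟨j, hj, rfl⟩ := List.mem_map.1 hy
        exact reflDataF4.sPerm_mem_sub (f4_word_mem i j hj)) (f4_word_neg i)
    obtain rfl := ChevCore.Moves.unique (coreF4 K) hw' ((gensF4 K hn).s_moves i)
    have hcol : ∃ a, (s : Matrix chevF4.Idx chevF4.Idx K) a (e fst) ≠ 0 := by
      by_contra hcon
      push Not at hcon
      have h2 := congrFun (congrFun (Units.inv_mul s) (e fst)) (e fst)
      rw [Matrix.mul_apply, Matrix.one_apply_eq] at h2
      simp [hcon] at h2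
    obtain ⟨a, ha⟩ := hcol
    rcases hsh a (e fst) ha with ⟨j, j', -, hb⟩ | ⟨q, hq, hb⟩
    · rw [hfst] at hb; exact Sum.inr_ne_inl hb
    · rw [hfst] at hb
      obtain rfl := Sum.inr.inj hb
      rw [hwJ, hw, ← hlst] at hq
      subst hq
      exact ha (htri hlt)

theorem torus_one_of_chars {c : Fin chevF4.rank → Kˣ}
    (hc : (coreF4 K).R.torus c ∈ twistedF4 K (2 ^ m))
    (h4 : (coreF4 K).R.torusChar c ((coreF4 K).R.α f4p4) = 1)
    (hb : (coreF4 K).R.torusChar c ((coreF4 K).R.α f4b) = 1) : (coreF4 K).R.torus c = 1 := by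
  obtain ⟨a, b, e⟩ := exists_tau hn (Subgroup.mem_inf.2
    ⟨(coreF4 K).diagonalSubgroup_eq ▸ ⟨c, rfl⟩, hc⟩)
  have heq : ∀ r, r < chevF4.nroots → (coreF4 K).R.torusChar c ((coreF4 K).R.α r) =
      (coreF4 K).R.torusChar (tauVec K m a b) ((coreF4 K).R.α r) := fun r hr => by
    have h1 := (coreF4 K).acts_torus c ⟨r, hr⟩ (1 : K)
    rw [e, (coreF4 K).acts_torus (tauVec K m a b) ⟨r, hr⟩, mul_one, mul_one] at h1
    exact (Units.ext ((coreF4 K).xGL_injective hr h1)).symm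
  have h1 := (chars_bijective (K := K) hn).1 (a₁ := (a, b)) (a₂ := (1, 1)) (by
    simp only
    rw [← heq _ (by decide), ← heq _ (by decide), h4, hb, (char_tau (K := K) (m := m) 1 1).1,
      (char_tau (K := K) (m := m) 1 1).2]
    simp)
  simp only [Prod.mk.injEq] at h1
  rw [e, h1.1, h1.2]
  simp [tauVec]

theorem blk0_faithful : ∀ x ∈ leviGrp K m 0, blk blockIdx0 x = 1 → x = 1 := by
  have hp : ∀ y ∈ posX K m 0, ∃ t, y = Pt K m t := fun y hy => exists_Pt hn hy
  refine blk_faithful hn 0 (fun g h hg => blk0_mul hg) 0 1 (by decide)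
    (r := ⟨26, by decide⟩) (r' := ⟨25, by decide⟩) rfl rfl (Fin.ext block_last.1) blockIdx_facts.1
    (fun y hy => ?_) (fun y hy h => ?_) (fun c hc h => ?_)
  · obtain ⟨t, rfl⟩ := hp y hy
    rw [blk0_Pt]
    refine ⟨fun i j hij => ?_, fun j => by fin_cases j <;> simp⟩
    fin_cases i <;> fin_cases j <;> simp_all
  · obtain ⟨t, rfl⟩ := hp y hy
    rw [blk0_Pt] at h
    have := congrFun (congrFun h 0) 1
    simp at this
    rw [this, Pt_zero]
  · have h0 : (coreF4 K).R.torusChar c (rootDataF4.α 26) = 1 := h 0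
    have h1 : (coreF4 K).R.torusChar c (rootDataF4.α 25) = 1 := h 1
    rw [block_alpha.2.1] at h1
    rw [block_alpha.1, RootData.torusChar_add, h1, mul_one] at h0
    exact torus_one_of_chars hn hc h0 h1

include P in
theorem blk1_faithful : ∀ x ∈ leviGrp K m 1, blk blockIdx1 x = 1 → x = 1 := by
  have hp : ∀ y ∈ posX K m 1, ∃ t u, y = Bt K m t u := fun y hy => exists_Bt hn hy
  refine blk_faithful hn 1 (fun g h hg => blk1_mul hg) 0 3 (by decide)
    (r := ⟨37, by decide⟩) (r' := ⟨33, by decide⟩) rfl rfl (Fin.ext block_last.2) blockIdx_facts.2.1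
    (fun y hy => ?_) (fun y hy h => ?_) (fun c hc h => ?_)
  · obtain ⟨t, u, rfl⟩ := hp y hy
    rw [blk1_Bt hn P]
    refine ⟨fun i j hij => ?_, fun j => by fin_cases j <;> simp [CfsgLib.SuzukiGroup.uMat]⟩
    fin_cases i <;> fin_cases j <;> simp_all [CfsgLib.SuzukiGroup.uMat]
  · obtain ⟨t, u, rfl⟩ := hp y hy
    rw [blk1_Bt hn P] at h
    have ht := congrFun (congrFun h 0) 1
    have hu := congrFun (congrFun h 0) 2
    simp [CfsgLib.SuzukiGroup.uMat] at ht hu
    rw [ht, hu, Bt_zero]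
  · have hchar := torus_chars hn hc
    simp only at hchar
    have h3 : (coreF4 K).R.torusChar c (rootDataF4.α 34) = 1 := h 2
    have h4 : (coreF4 K).R.torusChar c (rootDataF4.α 33) = 1 := h 3
    rw [block_alpha.2.2.1] at h4
    rw [block_alpha.2.2.2, RootData.torusChar_add, h4, one_mul] at h3
    have hroot : ∀ u : Kˣ, u ^ 2 ^ m = 1 → u = 1 := fun u hu => by
      have h1 : u ^ Fintype.card K = u := Units.ext (by
        rw [Units.val_pow_eq_pow_val, FiniteField.pow_card])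
      rw [hn, show 2 * (2 ^ m * 2 ^ m) = 2 ^ m * (2 * 2 ^ m) by ring, pow_mul, hu, one_pow] at h1
      exact h1.symm
    exact torus_one_of_chars hn hc (hroot _ (hchar.1.symm.trans h4)) (hroot _ (hchar.2.1.symm.trans h3))

omit hn in
theorem isCyclic_sylow_of_injective {A B : Type*} [Group A] [Group B] [Finite B] (f : A →* B)
    (hf : Function.Injective f) {p : ℕ} [Fact p.Prime]
    (hB : ∀ S : Sylow p B, IsCyclic (S : Subgroup B)) (S : Sylow p A) :
    IsCyclic (S : Subgroup A) := by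
  obtain ⟨T, hT⟩ := (S.2.map f).exists_le_sylow
  have := hB T
  exact isCyclic_of_injective
    ((f.comp (S : Subgroup A).subtype).codRestrict (T : Subgroup B) fun x =>
      hT (Subgroup.mem_map_of_mem f x.2))
    fun a b e => Subtype.ext (hf (congrArg Subtype.val e))

/-- The Sylow subgroups of odd order of a Levi group are cyclic. -/
theorem levi_sylow_cyclic (hm : 1 ≤ m) (i : Fin 2) {p : ℕ} [Fact p.Prime] (hp : p ≠ 2)
    (S : Sylow p ↥(leviGrp K m i)) : IsCyclic (S : Subgroup ↥(leviGrp K m i)) := by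
  rcases Fin.exists_fin_two.1 ⟨i, rfl⟩ with rfl | rfl
  · set ρ := (blockRep (coreF4 K) (orbF4.J 0) blockIdx_facts.1 blockIdx_facts.2.2.1).comp
      (Subgroup.inclusion (leviGrp_deg0 (K := K) (m := m) 0))
    have hdet : ∀ x, Matrix.det ((ρ x : GL (Fin 2) K) : Matrix (Fin 2) (Fin 2) K) = 1 := fun x => by
      have := congrArg Units.val (hom_units_eq_one hn 0 (Matrix.GeneralLinearGroup.det.comp ρ) x)
      simpa using this
    let f : ↥(leviGrp K m 0) →* Matrix.SpecialLinearGroup (Fin 2) K :=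
      MonoidHom.mk' (fun x => ⟨((ρ x : GL (Fin 2) K) : Matrix (Fin 2) (Fin 2) K), hdet x⟩)
        fun a b => Subtype.ext (by
          show ((ρ (a * b) : GL (Fin 2) K) : Matrix (Fin 2) (Fin 2) K) =
            ((ρ a : GL (Fin 2) K) : Matrix (Fin 2) (Fin 2) K) * ((ρ b : GL (Fin 2) K) : Matrix (Fin 2) (Fin 2) K)
          rw [map_mul]; rfl)
    refine isCyclic_sylow_of_injective f ((injective_iff_map_eq_one f).2 fun x hx => Subtype.ext ?_)
      (fun T => CfsgLib.ClassicalGroups.SL2.isCyclic_sylow_odd 2 p hp hp T) S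
    exact blk0_faithful hn x x.2 (congrArg Subtype.val hx)
  · obtain ⟨-, ⟨P⟩⟩ := CfsgLib.SuzukiGroup.exists_params (card_eq (K := K) hn)
    set ρ := (blockRep (coreF4 K) (orbF4.J 1) blockIdx_facts.2.1 blockIdx_facts.2.2.2).comp
      (Subgroup.inclusion (leviGrp_deg0 (K := K) (m := m) 1))
    obtain ⟨v, hv, hve⟩ := exists_neg1 hn P
    have hne : v ≠ 1 := by
      rintro rfl
      have h : blk blockIdx1 (1 : GL chevF4.Idx K) = 1 := by
        rw [blk, Units.val_one]; exact Matrix.submatrix_one _ blockIdx_facts.2.1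
      rw [h] at hve
      have := congrFun (congrFun hve 3) 2
      simp [Matrix.mul_apply, Fin.sum_univ_four, CfsgLib.SuzukiGroup.uMat,
        CfsgLib.SuzukiGroup.jMat] at this
    have hmem : ∀ x, ρ x ∈ Sz K (2 ^ (m + 1)) := by
      set H := ((Sz K (2 ^ (m + 1))).comap ρ).map (leviGrp K m 1).subtype
      have hle : leviGrp K m 1 ≤ H := by
        refine leviGrp_le_closure hn 1 hv hne (fun y hy => ⟨⟨y, Subgroup.mem_sup_left hy⟩, ?_, rfl⟩)
          ⟨⟨v, Subgroup.mem_sup_right hv⟩, ?_, rfl⟩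
        · obtain ⟨t, u, rfl⟩ := exists_Bt hn hy
          refine (CfsgLib.SuzukiGroup.mem_iff P _).2 ?_
          show CfsgLib.SuzukiGroup.Rel P.θ (blk blockIdx1 (Bt K m t u))
          rw [blk1_Bt hn P]
          exact CfsgLib.SuzukiGroup.rel_uMat P.sq _ _
        · refine (CfsgLib.SuzukiGroup.mem_iff P _).2 ?_
          show CfsgLib.SuzukiGroup.Rel P.θ (blk blockIdx1 v)
          rw [hve]
          exact CfsgLib.SuzukiGroup.rel_mat P
            (CfsgLib.SuzukiGroup.jEl P * CfsgLib.SuzukiGroup.uEl P 1 0 * CfsgLib.SuzukiGroup.jEl P)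
      intro x
      obtain ⟨x', hx', e⟩ := hle x.2
      rwa [← Subtype.ext (a1 := x') (a2 := x) e]
    refine isCyclic_sylow_of_injective (ρ.codRestrict _ hmem)
      ((injective_iff_map_eq_one _).2 fun x hx => Subtype.ext ?_)
      (fun T => CfsgLib.SuzukiGroup.sylow_odd_cyclic P (card_eq (K := K) hn) hm hp T) S
    exact blk1_faithful hn P x x.2 (congrArg (fun g : ↥(Sz K (2 ^ (m + 1))) =>
      ((g : GL (Fin 4) K) : Matrix (Fin 4) (Fin 4) K)) hx)

end CfsgLib.LargeReeMult
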