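import Cfsg.Agent.Lib.LargeReeMult.TwoPart
import Cfsg.Agent.Lib.LargeReeMult.Rho
import Cfsg.Agent.Lib.LargeReeMult.Dihedral

/-!
# The group lifts to every central extension with kernel of odd order

In a central extension with kernel of odd order the lifts of the elements of two-power order of the
root groups generate a subgroup meeting the kernel trivially.
-/

set_option autoImplicit false

namespace CfsgLib.LargeReeMult

open Cfsg.Lie CfsgLib.ChevStr CfsgLib.Twisted CfsgLib.LargeReeAut CfsgLib.TwistAut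
open scoped MatrixGroups

universe u

variable {K : Type u} [Field K] [Fintype K] [CharP K 2] {m : ℕ}
  (hn : Fintype.card K = 2 * (2 ^ m * 2 ^ m))

section base

/-- The generators of a Levi group in the twisted group. -/
def leviGens (K : Type u) [Field K] [CharP K 2] (m : ℕ) (i : Fin 2) :
    Set ↥(twistedF4 K (2 ^ m)) :=
  {g | (g : GL chevF4.Idx K) ∈ posX K m i ∨ (g : GL chevF4.Idx K) ∈ negX K m i}

/-- The torus of the twisted group as a subgroup. -/
noncomputable def torSub (K : Type u) [Field K] (m : ℕ) : Subgroup ↥(twistedF4 K (2 ^ m)) :=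
  (chevF4.diagonalSubgroup K).subgroupOf (twistedF4 K (2 ^ m))

omit [Fintype K] [CharP K 2] in
theorem torSub_commute {s t : ↥(twistedF4 K (2 ^ m))} (hs : s ∈ torSub K m) (ht : t ∈ torSub K m) :
    Commute s t := by
  obtain ⟨c, hc⟩ : (s : GL chevF4.Idx K) ∈ (coreF4 K).R.torus.range :=
    (coreF4 K).diagonalSubgroup_eq ▸ hs
  obtain ⟨d, hd⟩ : (t : GL chevF4.Idx K) ∈ (coreF4 K).R.torus.range :=
    (coreF4 K).diagonalSubgroup_eq ▸ ht
  refine Subtype.ext ?_
  show (s : GL chevF4.Idx K) * (t : GL chevF4.Idx K) = (t : GL chevF4.Idx K) * (s : GL chevF4.Idx K)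
  rw [← hc, ← hd, ← map_mul, ← map_mul, mul_comm]

include hn

theorem isTwo_leviGens (i : Fin 2) : ∀ g ∈ leviGens K m i, IsTwo g := by
  rintro g (hg | hg)
  · obtain ⟨n, h⟩ := isTwo_posX hn i hg
    exact ⟨n, Subtype.ext (by simpa using h)⟩
  · obtain ⟨n, h⟩ := isTwo_negX hn i hg
    exact ⟨n, Subtype.ext (by simpa using h)⟩

omit [Fintype K] hn in
theorem map_leviGens_le (i : Fin 2) :
    (Subgroup.closure (leviGens K m i)).map (twistedF4 K (2 ^ m)).subtype ≤ leviGrp K m i := by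
  rw [MonoidHom.map_closure, Subgroup.closure_le]
  rintro _ ⟨g, hg | hg, rfl⟩
  exacts [Subgroup.mem_sup_left hg, Subgroup.mem_sup_right hg]

theorem leviGens_sylow_cyclic (hm : 1 ≤ m) (i : Fin 2) (p : ℕ) (hp : p.Prime) (hp2 : p ≠ 2)
    (S : Sylow p ↥(Subgroup.closure (leviGens K m i))) :
    IsCyclic (S : Subgroup ↥(Subgroup.closure (leviGens K m i))) := by
  have : Fact p.Prime := ⟨hp⟩
  refine isCyclic_sylow_of_injective
    (((twistedF4 K (2 ^ m)).subtype.comp (Subgroup.closure (leviGens K m i)).subtype).codRestrict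
      (leviGrp K m i) fun x => map_leviGens_le i (Subgroup.mem_map_of_mem _ x.2))
    (fun a b e => Subtype.ext (Subtype.ext (congrArg Subtype.val e :)))
    (fun T => levi_sylow_cyclic hn hm i hp2 T) S

/-- A Levi torus element of both Levi groups is trivial. -/
theorem levi_tor_eq_one {h : GL chevF4.Idx K} (h0 : h ∈ leviGrp K m 0) (h1 : h ∈ leviGrp K m 1)
    (hh : h ∈ tor (twistedF4 K (2 ^ m))) : h = 1 := by
  obtain ⟨c, rfl⟩ : h ∈ (coreF4 K).R.torus.range := (coreF4 K).diagonalSubgroup_eq ▸ hh.1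
  have hc := hh.2
  have d0 := hom_units_eq_one hn 0 (Matrix.GeneralLinearGroup.det.comp
    ((blockRep (coreF4 K) (orbF4.J 0) blockIdx_facts.1 blockIdx_facts.2.2.1).comp
      (Subgroup.inclusion (leviGrp_deg0 (K := K) (m := m) 0)))) ⟨_, h0⟩
  have d1 := hom_units_eq_one hn 1 (Matrix.GeneralLinearGroup.det.comp
    ((blockRep (coreF4 K) (orbF4.J 1) blockIdx_facts.2.1 blockIdx_facts.2.2.2).comp
      (Subgroup.inclusion (leviGrp_deg0 (K := K) (m := m) 1)))) ⟨_, h1⟩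
  have e0 : (blk blockIdx0 ((coreF4 K).R.torus c)).det = 1 := congrArg Units.val d0
  have e1 : (blk blockIdx1 ((coreF4 K).R.torus c)).det = 1 := congrArg Units.val d1
  rw [blk, RootData.coe_torus, Matrix.submatrix_diagonal _ _ blockIdx_facts.1, Matrix.det_diagonal,
    Fin.prod_univ_two] at e0
  rw [blk, RootData.coe_torus, Matrix.submatrix_diagonal _ _ blockIdx_facts.2.1, Matrix.det_diagonal,
    Fin.prod_univ_four] at e1
  set χ := fun v => (coreF4 K).R.torusChar c v with hχdef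
  have hs : ∀ r, χ (rootDataF4.α r) = (coreF4 K).R.torusChar c ((coreF4 K).R.α r) := fun _ => rfl
  have u0 : χ (rootDataF4.α 26) * χ (rootDataF4.α 25) = 1 := Units.ext e0
  have u1 : χ (rootDataF4.α 37) * χ (rootDataF4.α 35) * χ (rootDataF4.α 34) * χ (rootDataF4.α 33) = 1 :=
    Units.ext e1
  have a35 : rootDataF4.α 35 = rootDataF4.α f4p1 + rootDataF4.α f4a + rootDataF4.α f4b ∧
      rootDataF4.α 37 = rootDataF4.α f4p1 + rootDataF4.α f4a + rootDataF4.α f4a + rootDataF4.α f4b := by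
    decide +kernel
  obtain ⟨hp, ha, -, -⟩ := torus_chars hn hc
  simp only at hp ha
  simp only [hχdef, block_alpha.1, block_alpha.2.1, block_alpha.2.2.1, block_alpha.2.2.2, a35.1, a35.2,
    RootData.torusChar_add] at u0 u1
  set x := (coreF4 K).R.torusChar c ((coreF4 K).R.α f4p4)
  set y := (coreF4 K).R.torusChar c ((coreF4 K).R.α f4b)
  change x * y * y = 1 at u0
  rw [show (coreF4 K).R.torusChar c (rootDataF4.α f4p1) = x ^ 2 ^ m from hp,
    show (coreF4 K).R.torusChar c (rootDataF4.α f4a) = y ^ 2 ^ m from ha,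
    show (coreF4 K).R.torusChar c (rootDataF4.α f4b) = y from rfl] at u1
  have hx : x = y ^ (-2 : ℤ) := by
    rw [mul_assoc] at u0
    rw [eq_inv_of_mul_eq_one_left u0]; group
  have hy : y ^ ((2 : ℤ) + (-4) * 2 ^ m) = 1 := by
    rw [hx] at u1
    rw [← u1, ← zpow_natCast y (2 ^ m), ← zpow_natCast (y ^ (-2 : ℤ)) (2 ^ m), ← zpow_mul]
    push_cast
    group
  obtain ⟨p, q, hpq⟩ := isCoprime_of_norm (P := 2) (Q := -4) (card_sub_one hn).symm (by decide +kernel)
  have hN : y ^ ((Fintype.card K : ℤ) - 1) = 1 := by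
    rw [zpow_sub_one, zpow_natCast, mul_inv_eq_one]
    exact Units.ext (by rw [Units.val_pow_eq_pow_val, FiniteField.pow_card])
  have hy1 : y = 1 := by
    rw [← zpow_one y, ← hpq, zpow_add, zpow_mul' y p, zpow_mul' y q, hy, hN, one_zpow, one_zpow,
      mul_one]
  exact torus_one_of_chars hn hc (show x = 1 by rw [hx, hy1, one_zpow]) hy1

theorem conj_posX {i : Fin 2} {x u : ↥(twistedF4 K (2 ^ m))} {w : Equiv.Perm (Fin chevF4.nroots)}
    (hx : (coreF4 K).Moves (x : GL chevF4.Idx K) w) {S : Set ℕ}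
    (hw : ∀ r : Fin chevF4.nroots, (r : ℕ) ∈ inRoots (coreF4 K).R (orbF4.J i) → (w r : ℕ) ∈ S)
    (hu : (u : GL chevF4.Idx K) ∈ posX K m i) :
    ((x * u * x⁻¹ : ↥(twistedF4 K (2 ^ m))) : GL chevF4.Idx K) ∈ (coreF4 K).Ucl S ∧
      ((x * u * x⁻¹ : ↥(twistedF4 K (2 ^ m))) : GL chevF4.Idx K) ∈ (frobF4 K m).fixedSub :=
  ⟨(coreF4 K).conj_Ucl_le hx (fun r hr t => (coreF4 K).xGL_mem_Ucl (hw r hr) t) _
      (Subgroup.mem_inf.1 hu).1, le_fixedF4 K hn (x * u * x⁻¹).2⟩

theorem conj_negX {i : Fin 2} {x u : ↥(twistedF4 K (2 ^ m))} {w : Equiv.Perm (Fin chevF4.nroots)}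
    (hx : (coreF4 K).Moves (x : GL chevF4.Idx K) w) {S : Set ℕ}
    (hw : ∀ r : Fin chevF4.nroots, (r : ℕ) ∈ negRootsIn (coreF4 K).R (orbF4.J i) → (w r : ℕ) ∈ S)
    (hu : (u : GL chevF4.Idx K) ∈ negX K m i) :
    ((x * u * x⁻¹ : ↥(twistedF4 K (2 ^ m))) : GL chevF4.Idx K) ∈ (coreF4 K).Ucl S ∧
      ((x * u * x⁻¹ : ↥(twistedF4 K (2 ^ m))) : GL chevF4.Idx K) ∈ (frobF4 K m).fixedSub :=
  ⟨(coreF4 K).conj_Ucl_le hx (fun r hr t => (coreF4 K).xGL_mem_Ucl (hw r hr) t) _
      (Subgroup.mem_inf.1 hu).1, le_fixedF4 K hn (x * u * x⁻¹).2⟩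

/-- The representatives can be chosen in the Levi groups. -/
theorem exists_levi_rep (i : Fin 2) : ∃ r : ↥(twistedF4 K (2 ^ m)),
    r ∈ Subgroup.closure (leviGens K m i) ∧
      ∃ h ∈ tor (twistedF4 K (2 ^ m)), (r : GL chevF4.Idx K) = h * (gensF4 K hn).s i := by
  obtain ⟨v, hvG, hvU, hne⟩ := (gensF4 K hn).neg_elt i
  have hv : v ∈ negX K m i := Subgroup.mem_inf.2 ⟨hvU, le_fixedF4 K hn hvG⟩
  obtain ⟨y, hy, t, ht, h, hh, e⟩ := exists_rep_levi hn i hv hne
  refine ⟨⟨y, posX_le hn i hy⟩⁻¹ * ⟨v, hvG⟩ * ⟨t, posX_le hn i ht⟩⁻¹,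
    mul_mem (mul_mem (inv_mem (Subgroup.subset_closure (Or.inl hy)))
      (Subgroup.subset_closure (Or.inr hv))) (inv_mem (Subgroup.subset_closure (Or.inl ht))),
    h, hh, ?_⟩
  rw [e]; rfl

omit [Fintype K] [CharP K 2] hn in
theorem moves_tor {h : GL chevF4.Idx K} (hh : h ∈ chevF4.diagonalSubgroup K) :
    (coreF4 K).Moves h 1 := by
  obtain ⟨c, rfl⟩ : h ∈ (coreF4 K).R.torus.range := (coreF4 K).diagonalSubgroup_eq ▸ hh
  exact (coreF4 K).moves_torus c

theorem wJ_twPerm (i : Fin 2) : (gensF4 K hn).wJ i = twPerm i :=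
  (gensF4 K hn).wJ_eq i ((reflDataF4.weylSub _).list_prod_mem fun y hy => by
    obtain ⟨j, hj, rfl⟩ := List.mem_map.1 hy
    exact reflDataF4.sPerm_mem_sub (f4_word_mem i j hj)) (f4_word_neg i)

end base

end CfsgLib.LargeReeMult
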