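import Cfsg.Agent.Lib.LargeReeAut.Main
import Cfsg.Agent.Lib.SuzukiGroup.Group

/-!
# The representations of the two Levi groups of `²F₄(q)` on root spaces

The Levi group of the first orbit acts on two root spaces as `SL₂(q)`, that of the second orbit on
four root spaces as the Suzuki group.
-/

set_option autoImplicit false

namespace CfsgLib.LargeReeMult

open Cfsg.Lie CfsgLib.ChevStr CfsgLib.Twisted CfsgLib.LargeReeAut
open scoped MatrixGroups Matrix

section generic

variable {D : ChevalleyDatum} {F : Type*} [Field F] (C : ChevCore D F) (J : Finset (Fin D.rank))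
  {k : ℕ} {e : Fin k → D.Idx} (he : Function.Injective e)
  (hcl : ∀ a i, (∀ m, m ∉ J → C.R.wt a m = C.R.wt (e i) m) → ∃ j, a = e j)

include he hcl in
theorem submatrix_mul {g h : GL D.Idx F} (hg : g ∈ deg0Sub C J) :
    ((g * h : GL D.Idx F) : Matrix D.Idx D.Idx F).submatrix e e =
      (g : Matrix D.Idx D.Idx F).submatrix e e * (h : Matrix D.Idx D.Idx F).submatrix e e := by
  classical
  ext i j
  simp only [Matrix.submatrix_apply, Units.val_mul, Matrix.mul_apply]
  refine ((Finset.sum_of_injOn (s := (Finset.univ : Finset (Fin k))) e he.injOn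
    (fun _ _ => Finset.mem_coe.2 (Finset.mem_univ _)) (fun a _ ha => ?_) fun _ _ => rfl)).symm
  by_cases h0 : (g : Matrix D.Idx D.Idx F) (e i) a = 0
  · rw [h0, zero_mul]
  · obtain ⟨l, rfl⟩ := hcl a i fun m hm => (hg.1 _ _ h0 m hm).symm
    exact absurd ⟨l, Finset.mem_coe.2 (Finset.mem_univ l), rfl⟩ ha

/-- The representation of a Levi subgroup on one of its blocks. -/
def blockRep : deg0Sub C J →* GL (Fin k) F :=
  MonoidHom.toHomUnits
    { toFun := fun g => ((g : GL D.Idx F) : Matrix D.Idx D.Idx F).submatrix e e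
      map_one' := by
        simp only [OneMemClass.coe_one, Units.val_one]
        exact Matrix.submatrix_one e he
      map_mul' := fun g h => submatrix_mul C J he hcl g.2 }

theorem coe_blockRep (g : deg0Sub C J) : (blockRep C J he hcl g : Matrix (Fin k) (Fin k) F) =
    ((g : GL D.Idx F) : Matrix D.Idx D.Idx F).submatrix e e := rfl

end generic

/-- The two blocks of root spaces. -/
def blockIdx0 : Fin 2 → chevF4.Idx := fun j =>
  Sum.inr ⟨[26, 25].getD j.val 0, by revert j; decide +kernel⟩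

/-- The block of the second Levi group. -/
def blockIdx1 : Fin 4 → chevF4.Idx := fun j =>
  Sum.inr ⟨[37, 35, 34, 33].getD j.val 0, by revert j; decide +kernel⟩

theorem blockIdx_facts : Function.Injective blockIdx0 ∧ Function.Injective blockIdx1 ∧
    (∀ a i, (∀ m, m ∉ nodesF4 0 → rootDataF4.wt a m = rootDataF4.wt (blockIdx0 i) m) →
      ∃ j, a = blockIdx0 j) ∧
    (∀ a i, (∀ m, m ∉ nodesF4 1 → rootDataF4.wt a m = rootDataF4.wt (blockIdx1 i) m) →
      ∃ j, a = blockIdx1 j) := by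
  unfold Function.Injective
  decide +kernel

/-- The expected chains of the root elements on a block. -/
def blockCheck {k : ℕ} (idx : Fin k → ℕ) (r : ℕ) (L : List (Fin k × Fin k × ℤ)) : Bool :=
  decide (r < chevF4.nroots) && (List.finRange k).all fun i => (List.finRange k).all fun j =>
    (idx j != r) && (idx j != chevF4.negIdx.getD r 0) &&
      ((chevF4.chainCoeff r (idx j) (idx i)) ==
        ((L.filter fun p => p.1 == i && p.2.1 == j).map fun p => (1, p.2.2)))

theorem block_tables :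
    (let f : Fin 2 → ℕ := fun j => [26, 25].getD j.val 0
     blockCheck f f4p1 [] = true ∧ blockCheck f f4p4 [(0, 1, 1)] = true ∧
       blockCheck f f4m1 [] = true ∧ blockCheck f f4m4 [(1, 0, 1)] = true) ∧
    (let f : Fin 4 → ℕ := fun j => [37, 35, 34, 33].getD j.val 0
     blockCheck f f4a [(0, 1, 1), (2, 3, 1)] = true ∧ blockCheck f f4b [(1, 2, 1)] = true ∧
       blockCheck f f4ab [(0, 2, -1), (1, 3, 1)] = true ∧ blockCheck f f4aab [(0, 3, 1)] = true ∧
       blockCheck f f4ma [(1, 0, 1), (3, 2, 1)] = true ∧ blockCheck f f4mb [(2, 1, 1)] = true ∧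
       blockCheck f f4mab [(2, 0, -1), (3, 1, 1)] = true ∧ blockCheck f f4maab [(3, 0, 1)] = true) := by
  decide +kernel

variable {K : Type*} [Field K]

theorem block_x {k : ℕ} {idx : Fin k → ℕ} (hidx : Function.Injective idx) {e : Fin k → chevF4.Idx}
    (he : ∀ j, ∃ h, e j = Sum.inr ⟨idx j, h⟩) {r : ℕ} {L : List (Fin k × Fin k × ℤ)}
    (hc : blockCheck idx r L = true) (t : K) :
    (chevF4.x K r t).submatrix e e = 1 + Matrix.of fun i j =>
      (((L.filter fun p => p.1 == i && p.2.1 == j)).map fun p => (p.2.2 : K) * t).sum := by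
  simp only [blockCheck, Bool.and_eq_true, List.all_eq_true, decide_eq_true_eq, List.mem_finRange,
    true_implies, beq_iff_eq, bne_iff_ne, ne_eq] at hc
  obtain ⟨hr, hc⟩ := hc
  ext i j
  obtain ⟨hi, ei⟩ := he i
  obtain ⟨hj, ej⟩ := he j
  obtain ⟨⟨h1, h2⟩, h3⟩ := hc i j
  rw [Matrix.submatrix_apply, ei, ej, Matrix.add_apply, Matrix.of_apply, ChevalleyDatum.x, dif_pos hr]
  have h4 : (⟨idx j, hj⟩ : Fin chevF4.nroots) ≠ ⟨r, hr⟩ := fun e => h1 (congrArg Fin.val e)
  simp only [ChevalleyDatum.xMat, Matrix.of_apply, if_neg h4, if_neg h2, h3, List.map_map]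
  congr 1
  · simp [Matrix.one_apply, hidx.eq_iff]
  · congr 1
    refine List.map_congr_left fun p _ => ?_
    simp

variable [CharP K 2]

omit [CharP K 2] in
theorem block0_x : ∀ t : K,
    (chevF4.x K f4p1 t).submatrix blockIdx0 blockIdx0 = 1 ∧
    (chevF4.x K f4m1 t).submatrix blockIdx0 blockIdx0 = 1 ∧
    (chevF4.x K f4p4 t).submatrix blockIdx0 blockIdx0 = !![1, t; 0, 1] ∧
    (chevF4.x K f4m4 t).submatrix blockIdx0 blockIdx0 = !![1, 0; t, 1] := by
  intro t
  obtain ⟨⟨h1, h2, h3, h4⟩, -⟩ := block_tables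
  have hinj : Function.Injective (fun j : Fin 2 => [26, 25].getD j.val 0) := by
    unfold Function.Injective; decide +kernel
  have he : ∀ j, ∃ h, blockIdx0 j = Sum.inr ⟨[26, 25].getD j.val 0, h⟩ := fun j => ⟨_, rfl⟩
  refine ⟨?_, ?_, ?_, ?_⟩ <;>
    [rw [block_x hinj he h1]; rw [block_x hinj he h3]; rw [block_x hinj he h2]; rw [block_x hinj he h4]] <;>
    ext i j <;> fin_cases i <;> fin_cases j <;> simp

theorem block1_x (t : K) :
    (chevF4.x K f4a t).submatrix blockIdx1 blockIdx1 = !![1, t, 0, 0; 0, 1, 0, 0; 0, 0, 1, t; 0, 0, 0, 1] ∧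
    (chevF4.x K f4b t).submatrix blockIdx1 blockIdx1 = !![1, 0, 0, 0; 0, 1, t, 0; 0, 0, 1, 0; 0, 0, 0, 1] ∧
    (chevF4.x K f4ab t).submatrix blockIdx1 blockIdx1 =
      !![1, 0, t, 0; 0, 1, 0, t; 0, 0, 1, 0; 0, 0, 0, 1] ∧
    (chevF4.x K f4aab t).submatrix blockIdx1 blockIdx1 =
      !![1, 0, 0, t; 0, 1, 0, 0; 0, 0, 1, 0; 0, 0, 0, 1] ∧
    (chevF4.x K f4ma t).submatrix blockIdx1 blockIdx1 =
      !![1, 0, 0, 0; t, 1, 0, 0; 0, 0, 1, 0; 0, 0, t, 1] ∧
    (chevF4.x K f4mb t).submatrix blockIdx1 blockIdx1 =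
      !![1, 0, 0, 0; 0, 1, 0, 0; 0, t, 1, 0; 0, 0, 0, 1] ∧
    (chevF4.x K f4mab t).submatrix blockIdx1 blockIdx1 =
      !![1, 0, 0, 0; 0, 1, 0, 0; t, 0, 1, 0; 0, t, 0, 1] ∧
    (chevF4.x K f4maab t).submatrix blockIdx1 blockIdx1 =
      !![1, 0, 0, 0; 0, 1, 0, 0; 0, 0, 1, 0; t, 0, 0, 1] := by
  obtain ⟨-, h1, h2, h3, h4, h5, h6, h7, h8⟩ := block_tables
  have hinj : Function.Injective (fun j : Fin 4 => [37, 35, 34, 33].getD j.val 0) := by
    unfold Function.Injective; decide +kernel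
  have he : ∀ j, ∃ h, blockIdx1 j = Sum.inr ⟨[37, 35, 34, 33].getD j.val 0, h⟩ := fun j => ⟨_, rfl⟩
  refine ⟨?_, ?_, ?_, ?_, ?_, ?_, ?_, ?_⟩ <;>
    [rw [block_x hinj he h1]; rw [block_x hinj he h2]; rw [block_x hinj he h3];
     rw [block_x hinj he h4]; rw [block_x hinj he h5]; rw [block_x hinj he h6];
     rw [block_x hinj he h7]; rw [block_x hinj he h8]] <;>
    ext i j <;> fin_cases i <;> fin_cases j <;> simp [CharTwo.neg_eq]

end CfsgLib.LargeReeMult
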