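import Cfsg.Agent.Lib.LargeReeMult.Steinberg

/-!
# The lifted unipotent group, torus and reflections generate a splitting subgroup
-/

set_option autoImplicit false
set_option linter.unusedVariables false
set_option linter.unusedSectionVars false

namespace CfsgLib.LargeReeMult

open Cfsg.Lie CfsgLib.ChevStr CfsgLib.Twisted CfsgLib.LargeReeAut CfsgLib.TwistAut
open scoped MatrixGroups

universe u

variable {K : Type u} [Field K] [Fintype K] [CharP K 2] {m : ℕ}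
  {Γ : Type u} [Group Γ] [Finite Γ] {σ : Γ →* ↥(twistedF4 K (2 ^ m))}

/-- The lifted monomial elements. -/
def liftN (σ : Γ →* ↥(twistedF4 K (2 ^ m))) (nn : Fin 2 → Γ) : Set Γ :=
  {x | ∃ k < 8, ∃ f, ∃ h ∈ liftT σ, x = dihWord (nn 0) (nn 1) k f * h}

/-- The lifted Bruhat decomposition. -/
def liftS (σ : Γ →* ↥(twistedF4 K (2 ^ m))) (nn : Fin 2 → Γ) : Set Γ :=
  {x | ∃ u ∈ liftU σ, ∃ w ∈ liftN σ nn, ∃ u' ∈ liftU σ, x = u * w * u'}

variable (hn : Fintype.card K = 2 * (2 ^ m * 2 ^ m)) (hm : 1 ≤ m)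
  (hsur : Function.Surjective σ) (hc : σ.ker ≤ Subgroup.center Γ) (hodd : ¬ 2 ∣ Nat.card ↥σ.ker)
  {nn : Fin 2 → Γ} (hN : ∀ i, nn i ∈ liftL σ i ∧
    ∃ h ∈ tor (twistedF4 K (2 ^ m)), (σ (nn i) : GL chevF4.Idx K) = h * (gensF4 K hn).s i)

theorem liftH_le (i : Fin 2) : liftH σ i ≤ liftT σ := by
  rcases Fin.exists_fin_two.1 ⟨i, rfl⟩ with e | e <;> rw [e]
  exacts [le_sup_left, le_sup_right]

include hn hsur hc hodd

theorem conj_moves_liftU (x : Γ) {p : Equiv.Perm (Fin chevF4.nroots)}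
    (hx : (coreF4 K).Moves (σ x : GL chevF4.Idx K) p) {S : Set ℕ}
    {g : ↥(twistedF4 K (2 ^ m))} (hg : IsTwo g) (hgS : (g : GL chevF4.Idx K) ∈ (coreF4 K).Ucl S)
    (h : ∀ r : Fin chevF4.nroots, (r : ℕ) ∈ S → chevF4.IsPosRoot (p r)) :
    x * lift2 σ g * x⁻¹ ∈ liftU σ := by
  refine conj_liftU hn hsur hc hodd x hg ?_
  rw [tailG_zero_eq, Subgroup.mem_subgroupOf]
  exact ⟨(coreF4 K).conj_Ucl_le hx (T := chevF4.posUnipotent K)
    (fun r hr t => (coreF4 K).xGL_mem_posUnipotent (h r hr) t) _ hgS, SetLike.coe_mem _⟩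

theorem conj_liftT_liftU {x u : Γ} (hx : x ∈ liftT σ) (hu : u ∈ liftU σ) :
    x * u * x⁻¹ ∈ liftU σ := by
  obtain ⟨g, hg, rfl⟩ := hu
  refine conj_liftU hn hsur hc hodd x (isTwo_tail hn hg) ?_
  obtain ⟨c, hc'⟩ : (σ x : GL chevF4.Idx K) ∈ (coreF4 K).R.torus.range :=
    (coreF4 K).diagonalSubgroup_eq ▸ σ_liftT hx
  have := tailU_conj_torus (i := 0) c (g := (g : GL chevF4.Idx K)) hg
  rw [hc'] at this
  exact this

include hN

theorem moves_dih (k : ℕ) (f : Bool) :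
    (σ (dihWord (nn 0) (nn 1) k f) : GL chevF4.Idx K) ∈ chevF4.monomialSubgroup K ∧
      (coreF4 K).Moves (σ (dihWord (nn 0) (nn 1) k f) : GL chevF4.Idx K) (dihPerm k f) := by
  obtain ⟨a1, a2⟩ := moves_nn hn hsur hc hodd hN 0
  obtain ⟨b1, b2⟩ := moves_nn hn hsur hc hodd hN 1
  induction k with
  | zero =>
    cases f
    · simpa [dihWord, dihPerm] using
        And.intro (one_mem (chevF4.monomialSubgroup K)) (moves_tor (one_mem (chevF4.diagonalSubgroup K)))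
    · simpa [dihWord, dihPerm] using And.intro a1 a2
  | succ k ih =>
    have e : dihWord (nn 0) (nn 1) (k + 1) f = nn 0 * nn 1 * dihWord (nn 0) (nn 1) k f := by
      rw [dihWord, dihWord, pow_succ', mul_assoc]
    have e' : dihPerm (k + 1) f = twPerm 0 * twPerm 1 * dihPerm k f := by
      rw [dihPerm, dihPerm, dihWord, dihWord, pow_succ', mul_assoc]
    rw [e, e', map_mul, map_mul]
    exact ⟨mul_mem (mul_mem a1 b1) ih.1,
      ChevCore.Moves.mul (coreF4 K) (ChevCore.Moves.mul (coreF4 K) a2 b2) ih.2⟩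

theorem cent_comm :
    ((nn 1 * nn 0) ^ 3 * nn 1) * nn 0 * ((nn 1 * nn 0) ^ 3 * nn 1)⁻¹ * (nn 0)⁻¹ ∈ liftT σ := by
  obtain ⟨a1, a2⟩ := moves_nn hn hsur hc hodd hN 0
  obtain ⟨b1, b2⟩ := moves_nn hn hsur hc hodd hN 1
  set c := (nn 1 * nn 0) ^ 3 * nn 1 with hcdef
  have hmv : (σ c : GL chevF4.Idx K) ∈ chevF4.monomialSubgroup K ∧
      (coreF4 K).Moves (σ c : GL chevF4.Idx K) centPerm := by
    have h1 := ChevCore.Moves.mul (coreF4 K) b2 a2
    have h3 := ChevCore.Moves.mul (coreF4 K)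
      (ChevCore.Moves.mul (coreF4 K) (ChevCore.Moves.mul (coreF4 K) h1 h1) h1) b2
    have hw : centPerm = twPerm 1 * twPerm 0 * (twPerm 1 * twPerm 0) * (twPerm 1 * twPerm 0) *
        twPerm 1 := by
      rw [centPerm, pow_three, ← mul_assoc (twPerm 1 * twPerm 0)]
    rw [hw, hcdef, pow_three, ← mul_assoc (nn 1 * nn 0)]
    simp only [map_mul, Subgroup.coe_mul]
    exact ⟨mul_mem (mul_mem (mul_mem (mul_mem b1 a1) (mul_mem b1 a1)) (mul_mem b1 a1)) b1, h3⟩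
  suffices hL : ∀ g ∈ leviGens K m 0, σ c * g * (σ c)⁻¹ ∈ leviGens K m 0 by
    have h1 : c * nn 0 * c⁻¹ * (nn 0)⁻¹ ∈ liftL σ 0 :=
      mul_mem (conj_liftL hn hsur hc hodd c hL (hN 0).1) (inv_mem (hN 0).1)
    refine liftH_le 0 ⟨h1, ?_⟩
    show (σ (c * nn 0 * c⁻¹ * (nn 0)⁻¹) : GL chevF4.Idx K) ∈ chevF4.diagonalSubgroup K
    simp only [map_mul, map_inv, Subgroup.coe_mul, InvMemClass.coe_inv]
    refine (coreF4 K).mem_diagonal_of_moves_one
      (mul_mem (mul_mem (mul_mem hmv.1 a1) (inv_mem hmv.1)) (inv_mem a1)) ?_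
    have h := ChevCore.Moves.mul (coreF4 K)
      (ChevCore.Moves.mul (coreF4 K) (ChevCore.Moves.mul (coreF4 K) hmv.2 a2)
        (ChevCore.Moves.inv (coreF4 K) hmv.1 hmv.2)) (ChevCore.Moves.inv (coreF4 K) a1 a2)
    have e : centPerm * twPerm 0 = twPerm 0 * centPerm := Equiv.ext centPerm_facts.2.2
    rwa [e, mul_inv_cancel_right, mul_inv_cancel] at h
  intro g hg
  rcases hg with hg | hg
  · exact Or.inl (Subgroup.mem_inf.2 (conj_posX hn hmv.2
      (fun r hr => centPerm_facts.1 r hr.1 hr.2) hg))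
  · exact Or.inr (Subgroup.mem_inf.2 (conj_negX hn hmv.2
      (fun r hr => centPerm_facts.2.1 r hr.1 hr.2) hg))

theorem dihWord_normalizes (k : ℕ) (f : Bool) :
    dihWord (nn 0) (nn 1) k f ∈ Subgroup.normalizer (liftT σ : Set Γ) := by
  have h0 := nn_normalizes hn hsur hc hodd hN 0
  have h1 := nn_normalizes hn hsur hc hodd hN 1
  refine mul_mem (pow_mem (mul_mem h0 h1) k) ?_
  cases f
  · exact one_mem _
  · exact h0

theorem dih_step (i : Fin 2) (k : ℕ) (hk : k < 8) (f : Bool) : ∃ k' < 8, ∃ f', ∃ h ∈ liftT σ,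
    nn i * dihWord (nn 0) (nn 1) k f = dihWord (nn 0) (nn 1) k' f' * h := by
  set N := Subgroup.normalizer (liftT σ : Set Γ)
  set π := QuotientGroup.mk' ((liftT σ).subgroupOf N)
  set A : ↥N := ⟨nn 0, nn_normalizes hn hsur hc hodd hN 0⟩
  set B : ↥N := ⟨nn 1, nn_normalizes hn hsur hc hodd hN 1⟩
  have hker : ∀ x : ↥N, π x = 1 ↔ (x : Γ) ∈ liftT σ := fun x =>
    (QuotientGroup.eq_one_iff x).trans Subgroup.mem_subgroupOf
  have ha : π A * π A = 1 := by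
    rw [← map_mul, hker]; exact liftH_le 0 (sq_nn hn hsur hc hodd hN 0)
  have hb : π B * π B = 1 := by
    rw [← map_mul, hker]; exact liftH_le 1 (sq_nn hn hsur hc hodd hN 1)
  have hcc : π (((B * A) ^ 3 * B) * A * ((B * A) ^ 3 * B)⁻¹ * A⁻¹) = 1 := by
    rw [hker]; exact cent_comm hn hsur hc hodd hN
  simp only [map_mul, map_inv, map_pow] at hcc
  set a := π A
  set b := π B
  have ha' : ∀ x, a * (a * x) = x := fun x => by rw [← mul_assoc, ha, one_mul]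
  have hb' : ∀ x, b * (b * x) = x := fun x => by rw [← mul_assoc, hb, one_mul]
  have hsq : (b * a) ^ 3 * b * ((b * a) ^ 3 * b) = 1 := by
    simp only [pow_succ, pow_zero, one_mul, mul_assoc, ha', hb', hb]
  rw [mul_inv_eq_one, mul_inv_eq_iff_eq_mul] at hcc
  have h8 : (a * b) ^ 8 = 1 := by
    have e : (a * b) ^ 4 = a * ((b * a) ^ 3 * b) := by
      simp only [pow_succ, pow_zero, one_mul, mul_assoc]
    rw [show 8 = 4 + 4 from rfl, pow_add, e, mul_assoc, ← mul_assoc ((b * a) ^ 3 * b) a, hcc,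
      mul_assoc, ha', hsq]
  have key : ∀ x : ↥N, (x : Γ) = nn i → (∃ k' < 8, ∃ f', π x * dihWord a b k f = dihWord a b k' f') →
      ∃ k' < 8, ∃ f', ∃ h ∈ liftT σ,
        nn i * dihWord (nn 0) (nn 1) k f = dihWord (nn 0) (nn 1) k' f' * h := by
    rintro x hx ⟨k', hk', f', e⟩
    refine ⟨k', hk', f', (dihWord (nn 0) (nn 1) k' f')⁻¹ * (nn i * dihWord (nn 0) (nn 1) k f), ?_,
      (mul_inv_cancel_left _ _).symm⟩
    have h1 : π ((dihWord A B k' f')⁻¹ * (x * dihWord A B k f)) = 1 := by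
      rw [map_mul, map_inv, map_mul, map_dihWord, map_dihWord]
      exact inv_mul_eq_one.2 e.symm
    have hA : ∀ k f, ((dihWord A B k f : ↥N) : Γ) = dihWord (nn 0) (nn 1) k f := fun k f =>
      map_dihWord N.subtype A B k f
    rw [hker] at h1
    simpa [hA, hx] using h1
  obtain ⟨h0, h1⟩ := dih_left ha hb h8 k hk f
  rcases Fin.exists_fin_two.1 ⟨i, rfl⟩ with e | e <;> subst e
  exacts [key A rfl h0, key B rfl h1]

theorem nn_mul_liftN (i : Fin 2) {w : Γ} (hw : w ∈ liftN σ nn) : nn i * w ∈ liftN σ nn := by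
  obtain ⟨k, hk, f, h, hh, rfl⟩ := hw
  obtain ⟨k', hk', f', h', hh', e⟩ := dih_step hn hsur hc hodd hN i k hk f
  exact ⟨k', hk', f', h' * h, mul_mem hh' hh, by rw [← mul_assoc, e, mul_assoc]⟩

theorem liftT_mul_liftN {t w : Γ} (ht : t ∈ liftT σ) (hw : w ∈ liftN σ nn) :
    t * w ∈ liftN σ nn := by
  obtain ⟨k, hk, f, h, hh, rfl⟩ := hw
  refine ⟨k, hk, f, (dihWord (nn 0) (nn 1) k f)⁻¹ * t * dihWord (nn 0) (nn 1) k f * h,
    mul_mem ?_ hh, by group⟩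
  have := (Subgroup.mem_normalizer_iff.1
    (inv_mem (dihWord_normalizes hn hsur hc hodd hN k f)) t).1 ht
  rwa [inv_inv] at this

theorem liftU_mul_liftS {u x : Γ} (hu : u ∈ liftU σ) (hx : x ∈ liftS σ nn) :
    u * x ∈ liftS σ nn := by
  obtain ⟨v, hv, w, hw, v', hv', rfl⟩ := hx
  exact ⟨u * v, liftU_mul hn hsur hc hodd hu hv, w, hw, v', hv', by group⟩

theorem liftT_mul_liftS {t x : Γ} (ht : t ∈ liftT σ) (hx : x ∈ liftS σ nn) :
    t * x ∈ liftS σ nn := by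
  obtain ⟨v, hv, w, hw, v', hv', rfl⟩ := hx
  exact ⟨t * v * t⁻¹, conj_liftT_liftU hn hsur hc hodd ht hv, t * w,
    liftT_mul_liftN hn hsur hc hodd hN ht hw, v', hv', by group⟩

theorem nn_posX_liftS (i : Fin 2) {A : ↥(twistedF4 K (2 ^ m))}
    (hA : (A : GL chevF4.Idx K) ∈ posX K m i) {w u' : Γ} (hw : w ∈ liftN σ nn)
    (hu' : u' ∈ liftU σ) : nn i * (lift2 σ A * w * u') ∈ liftS σ nn := by
  have hA2 : IsTwo A := isTwo_leviGens hn i A (Or.inl hA)
  obtain ⟨k, hk, f, h, hh, hwe⟩ := hw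
  have hwN : w ∈ liftN σ nn := ⟨k, hk, f, h, hh, hwe⟩
  obtain ⟨a1, a2⟩ := moves_nn hn hsur hc hodd hN i
  have hwm : (σ w : GL chevF4.Idx K) ∈ chevF4.monomialSubgroup K ∧
      (coreF4 K).Moves (σ w : GL chevF4.Idx K) (dihPerm k f) := by
    obtain ⟨d1, d2⟩ := moves_dih hn hsur hc hodd hN k f
    rw [hwe, map_mul, Subgroup.coe_mul]
    refine ⟨mul_mem d1 (le_sup_left (a := chevF4.diagonalSubgroup K) (σ_liftT hh)), ?_⟩
    have := ChevCore.Moves.mul (coreF4 K) d2 (moves_tor (σ_liftT hh))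
    rwa [mul_one] at this
  have hin : ∀ {p : Equiv.Perm (Fin chevF4.nroots)},
      (∀ s : Fin chevF4.nroots, (p s : ℕ) ∈ rootsF4 i → chevF4.IsPosRoot s) →
      ∀ r : Fin chevF4.nroots, (r : ℕ) ∈ inRoots (coreF4 K).R (orbF4.J i) →
        chevF4.IsPosRoot (p⁻¹ r) := fun {p} hp r hr => hp (p⁻¹ r) (by
      rw [Equiv.Perm.inv_def, Equiv.apply_symm_apply]; exact (Set.ext_iff.1 (inF4 K i) r).1 hr)
  rcases dih_dichotomy ⟨k, hk⟩ f i with hd | hd
  · have hU : w⁻¹ * lift2 σ A * w⁻¹⁻¹ ∈ liftU σ :=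
      conj_moves_liftU hn hsur hc hodd w⁻¹ (p := (dihPerm k f)⁻¹)
        (by rw [map_inv, InvMemClass.coe_inv]; exact ChevCore.Moves.inv (coreF4 K) hwm.1 hwm.2)
        hA2 (Subgroup.mem_inf.1 hA).1 (hin hd)
    refine ⟨1, one_mem_liftU hn hsur hc hodd, nn i * w, nn_mul_liftN hn hsur hc hodd hN i hwN,
      w⁻¹ * lift2 σ A * w⁻¹⁻¹ * u', liftU_mul hn hsur hc hodd hU hu', by group⟩
  rcases eq_or_ne A 1 with rfl | hne
  · rw [lift2_one hsur hc hodd, one_mul]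
    exact ⟨1, one_mem_liftU hn hsur hc hodd, nn i * w, nn_mul_liftN hn hsur hc hodd hN i hwN,
      u', hu', by group⟩
  obtain ⟨hnL, h0, hh0, hne0⟩ := hN i
  set g := gensF4 K hn
  set V : GL chevF4.Idx K := (σ (nn i) : GL chevF4.Idx K) * A * (σ (nn i) : GL chevF4.Idx K)⁻¹
    with hVdef
  have hV : V ∈ negX K m i := by
    rw [hVdef, hne0, show h0 * g.s i * (A : GL chevF4.Idx K) * (h0 * g.s i)⁻¹ =
      h0 * (g.s i * A * (g.s i)⁻¹) * h0⁻¹ by group]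
    exact tor_conj g hh0 _ (conj_in_mem g i hA)
  have hVne : V ≠ 1 := fun e => hne (Subtype.ext (conj_eq_one_iff.1 e))
  obtain ⟨y, hy, h', hh', t, ht, e⟩ := exists_levi g i hV hVne
  set Y : ↥(twistedF4 K (2 ^ m)) := ⟨y, posX_le hn i hy⟩
  set T : ↥(twistedF4 K (2 ^ m)) := ⟨t, posX_le hn i ht⟩
  have hY2 : IsTwo Y := isTwo_leviGens hn i Y (Or.inl hy)
  have hT2 : IsTwo T := isTwo_leviGens hn i T (Or.inl ht)
  set v := nn i * lift2 σ A * (nn i)⁻¹ with hvdef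
  set hh2 := (lift2 σ Y)⁻¹ * v * (lift2 σ T)⁻¹ * (nn i)⁻¹ with hhdef
  have hgen : ∀ {G : ↥(twistedF4 K (2 ^ m))}, G ∈ leviGens K m i → lift2 σ G ∈ liftL σ i :=
    fun hG => Subgroup.subset_closure ⟨_, hG, rfl⟩
  have hhT : hh2 ∈ liftT σ := by
    have h1 : hh2 ∈ liftL σ i :=
      mul_mem (mul_mem (mul_mem (inv_mem (hgen (Or.inl hy))) (mul_mem (mul_mem hnL
        (hgen (Or.inl hA))) (inv_mem hnL))) (inv_mem (hgen (Or.inl ht)))) (inv_mem hnL)
    refine liftH_le i ⟨h1, ?_⟩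
    show (σ hh2 : GL chevF4.Idx K) ∈ chevF4.diagonalSubgroup K
    simp only [hhdef, hvdef, map_mul, map_inv, (lift2_spec hsur hY2).2, (lift2_spec hsur hT2).2,
      (lift2_spec hsur hA2).2, Subgroup.coe_mul, InvMemClass.coe_inv]
    show y⁻¹ * V * t⁻¹ * (σ (nn i) : GL chevF4.Idx K)⁻¹ ∈ chevF4.diagonalSubgroup K
    rw [e, hne0, show y⁻¹ * (y * h' * g.s i * t) * t⁻¹ * (h0 * g.s i)⁻¹ = h' * h0⁻¹ by group]
    exact mul_mem hh'.1 (inv_mem hh0.1)
  have hU : (nn i * w)⁻¹ * lift2 σ T * (nn i * w)⁻¹⁻¹ ∈ liftU σ :=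
    conj_moves_liftU hn hsur hc hodd (nn i * w)⁻¹ (p := (twPerm i * dihPerm k f)⁻¹)
      (by
        rw [map_inv, InvMemClass.coe_inv, map_mul, Subgroup.coe_mul]
        exact ChevCore.Moves.inv (coreF4 K) (mul_mem a1 hwm.1)
          (ChevCore.Moves.mul (coreF4 K) a2 hwm.2))
      hT2 (Subgroup.mem_inf.1 ht).1 (hin hd)
  refine ⟨lift2 σ Y, ⟨Y, ?_, rfl⟩, hh2 * (nn i * (nn i * w)),
    liftT_mul_liftN hn hsur hc hodd hN hhT (nn_mul_liftN hn hsur hc hodd hN i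
      (nn_mul_liftN hn hsur hc hodd hN i hwN)),
    (nn i * w)⁻¹ * lift2 σ T * (nn i * w)⁻¹⁻¹ * u', liftU_mul hn hsur hc hodd hU hu', ?_⟩
  · rw [tailG_zero_eq, Subgroup.mem_subgroupOf]; exact fixU_in_le g i hy
  · rw [hhdef, hvdef]; group

theorem nn_mul_liftS (i : Fin 2) {x : Γ} (hx : x ∈ liftS σ nn) : nn i * x ∈ liftS σ nn := by
  obtain ⟨u, hu, w, hw, u', hu', rfl⟩ := hx
  obtain ⟨g, hg, rfl⟩ := hu
  have G := gensF4 K hn
  have hg' : ((g⁻¹ : ↥(twistedF4 K (2 ^ m))) : GL chevF4.Idx K) ∈ chevF4.posUnipotent K :=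
    inv_mem (by rw [← tailU_zero (K := K)]; exact hg)
  obtain ⟨a, ha, c, hc', e⟩ := exists_split (coreF4 K) (orbF4.J i) hg'
  obtain ⟨haf, -⟩ := orbF4.split_fixed (φ := frobF4 K m) i ha hc'
    (e ▸ le_fixedF4 K hn (SetLike.coe_mem _))
  have haX : a⁻¹ ∈ posX K m i := inv_mem (Subgroup.mem_inf.2 ⟨ha, haf⟩)
  set A : ↥(twistedF4 K (2 ^ m)) := ⟨a⁻¹, posX_le hn i haX⟩
  set Cc : ↥(twistedF4 K (2 ^ m)) := g * A⁻¹ with hC
  have hCe : (Cc : GL chevF4.Idx K) = c⁻¹ := by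
    show (g : GL chevF4.Idx K) * a⁻¹⁻¹ = c⁻¹
    rw [← inv_inv (g : GL chevF4.Idx K), show (g : GL chevF4.Idx K)⁻¹ = a * c from e]; group
  have hAU : A ∈ tailG K m 0 := by
    rw [tailG_zero_eq, Subgroup.mem_subgroupOf]; exact fixU_in_le G i haX
  have hCU : Cc ∈ tailG K m 0 := mul_mem hg (inv_mem hAU)
  have hge : lift2 σ g = lift2 σ Cc * lift2 σ A := by
    rw [← lift2_mul hsur hc hodd (isPGroup_tailG_zero (K := K) (m := m)) hCU hAU, hC,
      inv_mul_cancel_right]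
  have hout : nn i * lift2 σ Cc * (nn i)⁻¹ ∈ liftU σ :=
    conj_moves_liftU hn hsur hc hodd (nn i) (moves_nn hn hsur hc hodd hN i).2
      (isTwo_tail hn hCU) (S := outRoots (coreF4 K).R (orbF4.J i))
      (by rw [hCe]; exact inv_mem hc')
      fun r hr => (out_weyl (coreF4 K).hR ((wJ_twPerm hn i) ▸ G.wJ_mem i) hr).1
  have h := liftU_mul_liftS hn hsur hc hodd hN hout
    (nn_posX_liftS hn hsur hc hodd hN i (A := A) haX hw hu')
  rw [hge]
  convert h using 1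
  group

theorem closure_le_liftS :
    ∀ x ∈ Subgroup.closure (liftU σ ∪ Set.range nn ∪ (liftT σ : Set Γ)), x ∈ liftS σ nn := by
  intro x hx
  induction hx using Subgroup.closure_induction_left with
  | one =>
    exact ⟨1, one_mem_liftU hn hsur hc hodd, 1, ⟨0, by norm_num, false, 1, one_mem _, by simp [dihWord]⟩,
      1, one_mem_liftU hn hsur hc hodd, by simp⟩
  | mul_left x hx y hy ih =>
    rcases hx with (hx | ⟨i, rfl⟩) | hx
    exacts [liftU_mul_liftS hn hsur hc hodd hN hx ih, nn_mul_liftS hn hsur hc hodd hN i ih,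
      liftT_mul_liftS hn hsur hc hodd hN hx ih]
  | inv_mul_cancel x hx y hy ih =>
    rcases hx with (hx | ⟨i, rfl⟩) | hx
    · exact liftU_mul_liftS hn hsur hc hodd hN (liftU_inv hn hsur hc hodd hx) ih
    · have := nn_mul_liftS hn hsur hc hodd hN i (liftT_mul_liftS hn hsur hc hodd hN
        (inv_mem (liftH_le i (sq_nn hn hsur hc hodd hN i))) ih)
      rwa [show nn i * ((nn i * nn i)⁻¹ * y) = (nn i)⁻¹ * y by group] at this
    · exact liftT_mul_liftS hn hsur hc hodd hN (inv_mem hx) ih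

include hm in
theorem liftS_inj {z : Γ} (hz : z ∈ liftS σ nn) (h1 : σ z = 1) : z = 1 := by
  obtain ⟨u, hu, w, ⟨k, hk, f, h, hh, rfl⟩, u', hu', rfl⟩ := hz
  have hU : ∀ {x}, x ∈ liftU σ → (σ x : GL chevF4.Idx K) ∈ chevF4.posUnipotent K := fun hx => by
    rw [← tailU_zero (K := K)]; exact σ_liftU hn hsur hc hodd hx
  obtain ⟨d1, d2⟩ := moves_dih hn hsur hc hodd hN k f
  set d := dihWord (nn 0) (nn 1) k f with hd
  have hw : (σ (d * h) : GL chevF4.Idx K) ∈ chevF4.posUnipotent K := by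
    rw [map_mul σ (u * (d * h)), map_mul σ u, mul_eq_one_iff_eq_inv, ← eq_inv_mul_iff_mul_eq] at h1
    rw [h1, Subgroup.coe_mul, InvMemClass.coe_inv, InvMemClass.coe_inv]
    exact mul_mem (inv_mem (hU hu)) (inv_mem (hU hu'))
  have ht := σ_liftT hh
  have hwN : (σ (d * h) : GL chevF4.Idx K) ∈ chevF4.monomialSubgroup K := by
    rw [map_mul, Subgroup.coe_mul]
    exact mul_mem d1 (le_sup_left (a := chevF4.diagonalSubgroup K) ht)
  have hdiag : (σ (d * h) : GL chevF4.Idx K) ∈ chevF4.diagonalSubgroup K :=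
    (coreF4 K).borel_inf_monomial ▸ Subgroup.mem_inf.2
      ⟨le_sup_left (b := chevF4.diagonalSubgroup K) hw, hwN⟩
  have hperm : dihPerm k f = 1 := by
    refine ChevCore.Moves.unique (coreF4 K) ?_ (moves_tor hdiag)
    rw [map_mul, Subgroup.coe_mul]
    have := ChevCore.Moves.mul (coreF4 K) d2 (moves_tor ht)
    rwa [mul_one] at this
  obtain ⟨hk0, hf0⟩ := dihPerm_ne_one ⟨k, hk⟩ f (fun r => by simp [hperm])
  simp only at hk0
  subst hk0 hf0
  have hd1 : d = 1 := by simp [hd, dihWord]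
  have hbot : (σ (d * h) : GL chevF4.Idx K) = 1 :=
    (Subgroup.eq_bot_iff_forall _).1 (coreF4 K).posUnipotent_inf_diagonal _
      (Subgroup.mem_inf.2 ⟨hw, hdiag⟩)
  rw [hd1, one_mul] at hbot h1 ⊢
  obtain rfl := liftT_inj hn hm hsur hc hodd hh (Subtype.ext hbot)
  rw [mul_one] at h1 ⊢
  obtain ⟨g, hg, e⟩ := liftU_mul hn hsur hc hodd hu hu'
  rw [e, (lift2_spec hsur (isTwo_tail hn hg)).2] at h1
  rw [e, h1, lift2_one hsur hc hodd]

theorem closure_surjective :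
    (Subgroup.closure (liftU σ ∪ Set.range nn ∪ (liftT σ : Set Γ))).map σ = ⊤ := by
  set Γ0 := Subgroup.closure (liftU σ ∪ Set.range nn ∪ (liftT σ : Set Γ))
  set H := (Γ0.map σ).map (twistedF4 K (2 ^ m)).subtype with hH
  suffices h : twistedF4 K (2 ^ m) ≤ H by
    refine eq_top_iff.2 fun g _ => ?_
    obtain ⟨g', hg', e⟩ := h g.2
    exact (Subtype.ext e : g' = g) ▸ hg'
  have hpos : ∀ i, posX K m i ≤ H := fun i x hx => by
    set X : ↥(twistedF4 K (2 ^ m)) := ⟨x, posX_le hn i hx⟩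
    have hX : X ∈ tailG K m 0 := by
      rw [tailG_zero_eq, Subgroup.mem_subgroupOf]; exact fixU_in_le (gensF4 K hn) i hx
    exact ⟨X, ⟨lift2 σ X, Subgroup.subset_closure (Or.inl (Or.inl ⟨X, hX, rfl⟩)),
      (lift2_spec hsur (isTwo_tail hn hX)).2⟩, rfl⟩
  have hneg : ∀ i, negX K m i ≤ H := fun i w hw => by
    obtain ⟨-, h, hh, e⟩ := hN i
    have hn1 : h * (gensF4 K hn).s i ∈ H :=
      ⟨σ (nn i), ⟨nn i, Subgroup.subset_closure (Or.inl (Or.inr ⟨i, rfl⟩)), rfl⟩, e⟩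
    have hw' : h⁻¹ * w * h ∈ negX K m i := by
      simpa [negX] using tor_conj (gensF4 K hn) (inv_mem hh) _ hw
    obtain ⟨a, ha, hae⟩ := exists_pre_pos (gensF4 K hn) i hw'
    rw [show w = h * (gensF4 K hn).s i * a * (h * (gensF4 K hn).s i)⁻¹ by
      rw [show w = h * (h⁻¹ * w * h) * h⁻¹ by group, ← hae]; group]
    exact mul_mem (mul_mem hn1 (hpos i ha)) (inv_mem hn1)
  refine (Subgroup.closure_le _).2 ?_
  rintro x ⟨w, hw, he⟩
  obtain rfl : x = (coreF4 K).wordGL w := Units.ext (by rw [he, ChevCore.coe_wordGL])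
  have hfix := le_fixedF4 K hn ((coreF4 K).wordGL_mem_gen hw)
  have hU : ∀ S : Set ℕ, (∀ p ∈ w, p.1 ∈ S) →
      (coreF4 K).wordGL w ∈ (frobF4 K m).fixU S := fun S hS =>
    Subgroup.mem_inf.2 ⟨(coreF4 K).wordGL_mem_Ucl hS, hfix⟩
  rcases hw with ⟨t, rfl | rfl⟩ | ⟨t, u, rfl | rfl⟩
  · refine hpos 0 (hU _ fun p hp => ?_)
    rw [show inRoots (coreF4 K).R (orbF4.J 0) = listSet (rootsF4 0) from inF4 K 0]
    simp [f4PairWord] at hp
    rcases hp with rfl | rfl <;> simp [listSet, rootsF4]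
  · refine hneg 0 (hU _ fun p hp => ?_)
    simp [f4PairWord] at hp
    rcases hp with rfl | rfl <;> exact levi_neg_roots.1 _ (by simp)
  · refine hpos 1 (hU _ fun p hp => ?_)
    rw [show inRoots (coreF4 K).R (orbF4.J 1) = listSet (rootsF4 1) from inF4 K 1]
    simp [b2ClassWord] at hp
    rcases hp with rfl | rfl | rfl | rfl <;> simp [listSet, rootsF4]
  · refine hneg 1 (hU _ fun p hp => ?_)
    simp [b2ClassWord] at hp
    rcases hp with rfl | rfl | rfl | rfl <;> exact levi_neg_roots.2 _ (by simp)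

omit hN in
include hm in
/-- A stem extension with kernel of odd order is trivial. -/
theorem ker_eq_bot_of_odd (hder : σ.ker ≤ commutator Γ) : σ.ker = ⊥ := by
  obtain ⟨nn, hN⟩ := exists_liftN hn hsur hc hodd
  set Γ0 := Subgroup.closure (liftU σ ∪ Set.range nn ∪ (liftT σ : Set Γ))
  have hinj : ∀ z ∈ Γ0, σ z = 1 → z = 1 := fun z hz =>
    liftS_inj hn hm hsur hc hodd hN (closure_le_liftS hn hsur hc hodd hN z hz)
  have hdec : ∀ x : Γ, ∃ a ∈ Γ0, ∃ z ∈ Subgroup.center Γ, x = a * z := fun x => by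
    have hx : σ x ∈ Γ0.map σ := closure_surjective hn hsur hc hodd hN ▸ Subgroup.mem_top _
    obtain ⟨a, ha, e⟩ := hx
    exact ⟨a, ha, a⁻¹ * x, hc (by rw [MonoidHom.mem_ker, map_mul, map_inv, e, inv_mul_cancel]),
      (mul_inv_cancel_left a x).symm⟩
  have hcomm : commutator Γ ≤ Γ0 := by
    refine Subgroup.commutator_le.2 fun x _ y _ => ?_
    obtain ⟨a, ha, z, hz, rfl⟩ := hdec x
    obtain ⟨b, hb, v, hv, rfl⟩ := hdec y
    have hz' := Subgroup.mem_center_iff.1 hz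
    have hv' := Subgroup.mem_center_iff.1 hv
    rw [commutatorElement_def, show a * z * (b * v) * (a * z)⁻¹ * (b * v)⁻¹ =
      a * (z * (b * v) * z⁻¹) * a⁻¹ * (v⁻¹ * b⁻¹) by group, ← hz' (b * v), mul_inv_cancel_right,
      show a * (b * v) * a⁻¹ * (v⁻¹ * b⁻¹) = a * b * (v * a⁻¹ * v⁻¹) * b⁻¹ by group, ← hv' a⁻¹,
      mul_inv_cancel_right]
    exact mul_mem (mul_mem (mul_mem ha hb) (inv_mem ha)) (inv_mem hb)
  exact (Subgroup.eq_bot_iff_forall _).2 fun z hz => hinj z (hcomm (hder hz)) hz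

end CfsgLib.LargeReeMult
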