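import Cfsg.Agent.Lib.LargeReeMult.Filtration
import Mathlib.RingTheory.Coprime.Lemmas

/-!
# The characters of the torus of `²F₄` on the orbits, and pairings invariant under them
-/

set_option autoImplicit false

namespace CfsgLib.LargeReeMult

open Cfsg.Lie CfsgLib.ChevStr CfsgLib.Twisted CfsgLib.LargeReeAut
open scoped MatrixGroups

universe u

/-- The coefficients of the second root of an orbit on the fundamental roots. -/
def coeffF4 (i : ℕ) : ℤ × ℤ × ℤ × ℤ :=
  [(0, 0, 0, 1), (0, 0, 1, 0), (0, 0, 1, 1), (0, 1, 1, 0), (0, 2, 1, 1), (0, 1, 1, 1), (0, 2, 2, 1),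
    (1, 1, 1, 1), (1, 2, 1, 1), (1, 2, 2, 1), (1, 3, 2, 1), (2, 3, 2, 1)].getD i (0, 0, 0, 0)

/-- The exponent of the character of the first orbit group. -/
def expP (e : ℤ) (i : ℕ) : ℤ := (coeffF4 i).2.2.2 + (coeffF4 i).1 * e

/-- The exponent of the character of the second orbit group. -/
def expB (e : ℤ) (i : ℕ) : ℤ := (coeffF4 i).2.2.1 + (coeffF4 i).2.1 * e

theorem coeffF4_spec : ∀ i : Fin 12, rootDataF4.α (rootB i) =
    (coeffF4 i).1 • rootDataF4.α f4p1 + (coeffF4 i).2.2.2 • rootDataF4.α f4p4 +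
      ((coeffF4 i).2.1 • rootDataF4.α f4a + (coeffF4 i).2.2.1 • rootDataF4.α f4b) := by
  decide +kernel

/-- A divisor of a large power of two. -/
def twoPow (x : ℤ) : Bool := decide (x.natAbs ∣ 2 ^ 30)

/-- The pairs of orbits for which there is no torus element separating the characters. -/
def badPairs : List (ℕ × ℕ) := [(1, 3), (2, 7), (4, 10), (5, 11)]

theorem det_check : ∀ j i : Fin 12, j < i → ((j : ℕ), (i : ℕ)) ∉ badPairs →
    let a := coeffF4 j; let b := coeffF4 i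
    twoPow (2 * (2 * (b.2.2.2 * a.2.2.1 - b.2.2.1 * a.2.2.2) + (b.1 * a.2.1 - b.2.1 * a.1)) ^ 2 -
      (2 * (b.2.2.2 * a.2.1 + b.1 * a.2.2.1 - b.2.2.1 * a.1 - b.2.1 * a.2.2.2)) ^ 2) = true := by
  decide +kernel

theorem unit_check : ∀ i : Fin 12,
    twoPow (2 * (coeffF4 i).2.2.2 ^ 2 - (coeffF4 i).1 ^ 2) = true ∨
      twoPow (2 * (coeffF4 i).2.2.1 ^ 2 - (coeffF4 i).2.1 ^ 2) = true := by
  decide +kernel

/-- A quantity whose norm is a power of two is prime to `2 e ^ 2 - 1`. -/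
theorem isCoprime_of_norm {N e P Q : ℤ} (hN : 2 * e ^ 2 = N + 1)
    (h : twoPow (2 * P ^ 2 - Q ^ 2) = true) : IsCoprime (P + Q * e) N := by
  have h2 : IsCoprime (2 : ℤ) N := ⟨e ^ 2, -1, by linear_combination hN⟩
  have hd : 2 * P ^ 2 - Q ^ 2 ∣ (2 : ℤ) ^ 30 := by
    have := of_decide_eq_true h
    rw [← Int.natAbs_dvd_natAbs]
    simpa using this
  obtain ⟨a, b, hab⟩ := (h2.pow_left (m := 30)).of_isCoprime_of_dvd_left hd
  exact ⟨2 * a * (P - Q * e), b + a * Q ^ 2, by linear_combination hab - a * Q ^ 2 * hN⟩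

variable {K : Type*} [Field K] [Fintype K] [CharP K 2] {m : ℕ}
  (hn : Fintype.card K = 2 * (2 ^ m * 2 ^ m))

include hn

omit [CharP K 2] in
theorem card_sub_one : ((Fintype.card K : ℤ) - 1) + 1 = 2 * ((2 : ℤ) ^ m) ^ 2 := by
  rw [hn]; push_cast; ring

/-- The character of a torus element on the second root of an orbit. -/
theorem char_rootB {i : ℕ} (hi : i < 12) {c : Fin chevF4.rank → Kˣ}
    (hc : (coreF4 K).R.torus c ∈ twistedF4 K (2 ^ m)) :
    (coreF4 K).R.torusChar c ((coreF4 K).R.α (rootB i)) =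
      (coreF4 K).R.torusChar c ((coreF4 K).R.α f4p4) ^ expP (2 ^ m) i *
        (coreF4 K).R.torusChar c ((coreF4 K).R.α f4b) ^ expB (2 ^ m) i := by
  obtain ⟨hp, ha, -, -⟩ := torus_chars hn hc
  simp only at hp ha
  have hs := coeffF4_spec ⟨i, hi⟩
  show (coreF4 K).R.torusChar c (rootDataF4.α (rootB i)) = _
  rw [hs]
  simp only [RootData.torusChar_add, RootData.torusChar_zsmul]
  show (coreF4 K).R.torusChar c ((coreF4 K).R.α f4p1) ^ _ *
      (coreF4 K).R.torusChar c ((coreF4 K).R.α f4p4) ^ _ *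
      ((coreF4 K).R.torusChar c ((coreF4 K).R.α f4a) ^ _ *
        (coreF4 K).R.torusChar c ((coreF4 K).R.α f4b) ^ _) = _
  rw [hp, ha, ← zpow_natCast _ (2 ^ m), ← zpow_natCast _ (2 ^ m), ← zpow_mul, ← zpow_mul, ← zpow_add,
    ← zpow_add, expP, expB]
  push_cast
  congr 2 <;> ring

/-- Torus elements of the group with given characters on the two orbit groups. -/
theorem exists_torus (x y : Kˣ) : ∃ c : Fin chevF4.rank → Kˣ,
    (coreF4 K).R.torus c ∈ twistedF4 K (2 ^ m) ∧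
      (coreF4 K).R.torusChar c ((coreF4 K).R.α f4p4) = x ∧
      (coreF4 K).R.torusChar c ((coreF4 K).R.α f4b) = y := by
  obtain ⟨⟨c, v⟩, h⟩ := (chars_bijective (K := K) hn).2 (x, y)
  exact ⟨_, tau_mem hn c v, congrArg Prod.fst h, congrArg Prod.snd h⟩

omit [CharP K 2] hn in
theorem exists_zpow_eq {a : ℤ} (ha : IsCoprime a ((Fintype.card K : ℤ) - 1)) (u : Kˣ) :
    ∃ x : Kˣ, x ^ a = u := by
  obtain ⟨p, q, hpq⟩ := ha
  refine ⟨u ^ p, ?_⟩
  have h1 : u ^ ((Fintype.card K : ℤ) - 1) = 1 := by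
    rw [zpow_sub_one, zpow_natCast, mul_inv_eq_one]
    exact Units.ext (by rw [Units.val_pow_eq_pow_val, FiniteField.pow_card])
  rw [← zpow_mul]
  nth_rw 2 [← zpow_one u]
  rw [← hpq, zpow_add, zpow_mul' u q, h1, one_zpow, mul_one]

/-- Every unit is a character value on each orbit. -/
theorem char_surjective {i : ℕ} (hi : i < 12) (u : Kˣ) : ∃ c : Fin chevF4.rank → Kˣ,
    (coreF4 K).R.torus c ∈ twistedF4 K (2 ^ m) ∧
      (coreF4 K).R.torusChar c ((coreF4 K).R.α (rootB i)) = u := by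
  have hN := (card_sub_one hn).symm
  rcases unit_check ⟨i, hi⟩ with h | h
  · obtain ⟨x, hx⟩ := exists_zpow_eq (isCoprime_of_norm hN h) u
    obtain ⟨c, hc, h1, h2⟩ := exists_torus hn x 1
    exact ⟨c, hc, by rw [char_rootB hn hi hc, h1, h2, one_zpow, mul_one]; exact hx⟩
  · obtain ⟨x, hx⟩ := exists_zpow_eq (isCoprime_of_norm hN h) u
    obtain ⟨c, hc, h1, h2⟩ := exists_torus hn 1 x
    exact ⟨c, hc, by rw [char_rootB hn hi hc, h1, h2, one_zpow, one_mul]; exact hx⟩

omit [CharP K 2] in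
theorem exists_gen (hm : 1 ≤ m) : ∃ g : Kˣ, (∀ z : ℤ, g ^ z = 1 → (Fintype.card K : ℤ) - 1 ∣ z) ∧
    g ≠ 1 ∧ g ^ 3 ≠ 1 := by
  obtain ⟨g, hg⟩ := IsCyclic.exists_generator (α := Kˣ)
  have h8 : 8 ≤ Fintype.card K := by
    rw [hn]
    have := Nat.le_self_pow (n := m) (by omega) 2
    nlinarith
  have hord : orderOf g = Fintype.card K - 1 := by
    rw [orderOf_eq_card_of_forall_mem_zpowers hg, Nat.card_units, Nat.card_eq_fintype_card]
  refine ⟨g, fun z hz => ?_, fun e => ?_, pow_ne_one_of_lt_orderOf (by norm_num) (by omega)⟩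
  · rw [← orderOf_dvd_iff_zpow_eq_one, hord, Nat.cast_sub (by omega)] at hz
    simpa using hz
  · rw [e, orderOf_one] at hord; omega

/-- For a good pair of orbits a torus element is trivial on one and moves the other. -/
theorem exists_separating (hm : 1 ≤ m) {j i : ℕ} (hji : j < i) (hi : i < 12)
    (hgood : (j, i) ∉ badPairs) : ∃ c : Fin chevF4.rank → Kˣ,
    (coreF4 K).R.torus c ∈ twistedF4 K (2 ^ m) ∧
      (coreF4 K).R.torusChar c ((coreF4 K).R.α (rootB j)) = 1 ∧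
      (coreF4 K).R.torusChar c ((coreF4 K).R.α (rootB i)) ≠ 1 := by
  obtain ⟨g, hg, hg1, hg3⟩ := exists_gen hn hm
  obtain ⟨c, hc, h1, h2⟩ := exists_torus hn (g ^ expB (2 ^ m) j) (g ^ (-expP (2 ^ m) j))
  refine ⟨c, hc, ?_, ?_⟩
  · rw [char_rootB hn (hji.trans hi) hc, h1, h2, ← zpow_mul, ← zpow_mul, ← zpow_add]
    convert zpow_zero g using 2
    ring
  rw [char_rootB hn hi hc, h1, h2, ← zpow_mul, ← zpow_mul, ← zpow_add]
  intro he
  have hN := (card_sub_one hn).symm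
  have hco := isCoprime_of_norm hN (det_check ⟨j, hji.trans hi⟩ ⟨i, hi⟩ hji hgood)
  have hdvd : (Fintype.card K : ℤ) - 1 ∣ 1 := by
    obtain ⟨p, q, hpq⟩ := hco
    refine (dvd_add (Dvd.dvd.mul_left ?_ p) (dvd_mul_left _ q)).trans hpq.dvd
    obtain ⟨k, hk⟩ := hg _ he
    refine ⟨2 * k - ((coeffF4 i).1 * (coeffF4 j).2.1 - (coeffF4 i).2.1 * (coeffF4 j).1), ?_⟩
    simp only [expP, expB] at hk ⊢
    linear_combination 2 * hk -
      ((coeffF4 i).1 * (coeffF4 j).2.1 - (coeffF4 i).2.1 * (coeffF4 j).1) * hN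
  have h8 : (4 : ℤ) ≤ Fintype.card K := by
    rw [hn]
    have := Nat.le_self_pow (n := m) (by omega) 2
    exact_mod_cast (by nlinarith : 4 ≤ 2 * (2 ^ m * 2 ^ m))
  have := Int.le_of_dvd one_pos hdvd
  omega

section forms

variable {M : Type u} [CommGroup M] {B : K → K → M}
  (hr : ∀ a b b', B a (b + b') = B a b * B a b')

omit [Fintype K] hn in
include hr in
theorem biadd_mul_self (a b : K) : B a b * B a b = 1 := by
  have h0 : B a 0 = 1 := by
    have := hr a 0 0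
    rw [add_zero] at this
    exact mul_eq_left.1 this.symm
  rw [← hr, CharTwo.add_self_eq_zero, h0]

end forms

/-- No invariant pairing between two good orbits. -/
theorem biadd_eq_one_of_good (hm : 1 ≤ m) {j i : ℕ} (hji : j < i) (hi : i < 12)
    (hgood : (j, i) ∉ badPairs) {M : Type u} [CommGroup M] {B : K → K → M}
    (hr : ∀ a b b', B a (b + b') = B a b * B a b')
    (hinv : ∀ c : Fin chevF4.rank → Kˣ, (coreF4 K).R.torus c ∈ twistedF4 K (2 ^ m) → ∀ a b,
      B (((coreF4 K).R.torusChar c ((coreF4 K).R.α (rootB j)) : K) * a)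
        (((coreF4 K).R.torusChar c ((coreF4 K).R.α (rootB i)) : K) * b) = B a b)
    (a b : K) : B a b = 1 := by
  obtain ⟨c, hc, h1, h2⟩ := exists_separating hn hm hji hi hgood
  set χ : K := ((coreF4 K).R.torusChar c ((coreF4 K).R.α (rootB i)) : K) with hχ
  have hne : χ + 1 ≠ 0 := fun e => h2 (Units.ext (CharTwo.add_eq_zero.1 e))
  have h := hinv c hc a (b / (χ + 1))
  rw [h1, Units.val_one, one_mul, ← hχ] at h
  have e : χ * (b / (χ + 1)) + b / (χ + 1) = b := by field_simp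
  have h3 := hr a (χ * (b / (χ + 1))) (b / (χ + 1))
  rw [e, h, biadd_mul_self hr] at h3
  exact h3

end CfsgLib.LargeReeMult
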