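import Cfsg.Agent.Lib.LargeReeAut.Main

/-!
# The filtration of the unipotent group of `F₄` by the orbits of the exceptional endomorphism

In characteristic two the positive roots can be ordered by the twelve orbits so that every
non-vanishing term of the commutator formula lies in a later orbit.
-/

set_option autoImplicit false

namespace CfsgLib.LargeReeMult

open Cfsg.Lie CfsgLib.ChevStr CfsgLib.Twisted
open scoped MatrixGroups commutatorElement

/-- The orbits on the positive roots. -/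
def seqF4 : List (ℕ × ℕ) := [(33, 24), (27, 25), (34, 26), (30, 28), (35, 31), (41, 29), (37, 32),
  (42, 36), (43, 38), (45, 39), (46, 40), (47, 44)]

/-- The first root of an orbit. -/
def rootA (i : ℕ) : ℕ := (seqF4.getD i (0, 0)).1

/-- The second root of an orbit. -/
def rootB (i : ℕ) : ℕ := (seqF4.getD i (0, 0)).2

/-- The roots of the orbits from number `i` on. -/
def tailList (i : ℕ) : List ℕ := (seqF4.drop i).flatMap fun p => [p.1, p.2]

theorem seqF4_facts : ∀ i : Fin 12,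
    rootA i < chevF4.nroots ∧ rootB i < chevF4.nroots ∧ chevF4.IsPosRoot (rootA i) ∧
      chevF4.IsPosRoot (rootB i) ∧ rootA i ≠ rootB i ∧ subF4.root (rootA i) = rootB i ∧
      subF4.root (rootB i) = rootA i ∧ subF4.ex (rootA i) * subF4.ex (rootB i) = 2 := by
  decide +kernel

theorem tailList_succ : ∀ i : Fin 12,
    tailList i = rootA i :: rootB i :: tailList (i + 1) := by decide +kernel

theorem tailList_comm : ∀ i : Fin 12, ∀ s ∈ [rootA i, rootB i], ∀ r ∈ tailList 0, s ≠ r →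
    ∀ c ∈ chevF4.commTerms r s, c.2.1 % 2 = 0 ∨ c.1 ∈ tailList (i + 1) := by decide +kernel

theorem tailList_nil : tailList 12 = [] := by decide +kernel

theorem tailList_pos_mem : ∀ r ∈ tailList 0, chevF4.IsPosRoot r := by decide +kernel

theorem pos_mem_tailList : ∀ r : Fin chevF4.nroots, chevF4.IsPosRoot r → (r : ℕ) ∈ tailList 0 := by
  decide +kernel

theorem tailList_sub (i j : ℕ) (h : i ≤ j) : ∀ r ∈ tailList j, r ∈ tailList i := by
  intro r hr
  simp only [tailList, List.mem_flatMap] at hr ⊢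
  obtain ⟨p, hp, hrp⟩ := hr
  refine ⟨p, ?_, hrp⟩
  rw [show j = i + (j - i) by omega, ← List.drop_drop] at hp
  exact List.mem_of_mem_drop hp

theorem rootA_mem {i : ℕ} (hi : i < 12) : rootA i ∈ tailList i := by
  rw [tailList_succ ⟨i, hi⟩]; exact List.mem_cons_self

theorem rootB_mem {i : ℕ} (hi : i < 12) : rootB i ∈ tailList i := by
  rw [tailList_succ ⟨i, hi⟩]; exact List.mem_cons_of_mem _ List.mem_cons_self

variable (K : Type*) [Field K]

/-- The subgroup of the orbits from number `i` on. -/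
noncomputable def tailU (i : ℕ) : Subgroup (GL chevF4.Idx K) :=
  (coreF4 K).Ucl {r | r ∈ tailList i}

variable {K}

theorem tailU_mono {i j : ℕ} (h : i ≤ j) : tailU K j ≤ tailU K i :=
  (coreF4 K).Ucl_mono fun r hr => tailList_sub i j h r hr

theorem tailU_twelve : tailU K 12 = ⊥ :=
  le_bot_iff.1 ((coreF4 K).Ucl_le fun r (hr : r ∈ tailList 12) => by simp [tailList_nil] at hr)

theorem tailU_zero : tailU K 0 = chevF4.posUnipotent K := by
  rw [(coreF4 K).posUnipotent_eq, tailU]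
  congr 1
  ext r
  exact ⟨fun hr => tailList_pos_mem r hr, fun hr => pos_mem_tailList ⟨r, hr.1⟩ hr⟩

theorem xGL_mem_tailU {i r : ℕ} (hr : r ∈ tailList i) (t : K) :
    (coreF4 K).xGL r t ∈ tailU K i := (coreF4 K).xGL_mem_Ucl hr t

variable [CharP K 2]

theorem commWord_tail {i : ℕ} (hi : i < 12) {r s : ℕ} (hs : s ∈ [rootA i, rootB i])
    (hr : r ∈ tailList 0) (hne : s ≠ r) (t u : K) :
    (coreF4 K).wordGL (chevF4.commWord K r s t u) ∈ tailU K (i + 1) := by
  refine Subgroup.list_prod_mem _ fun x hx => ?_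
  simp only [List.mem_map, ChevalleyDatum.commWord] at hx
  obtain ⟨p, ⟨c, hc, rfl⟩, rfl⟩ := hx
  rcases tailList_comm ⟨i, hi⟩ s hs r hr hne c hc with h | h
  · obtain ⟨k, hk⟩ := Int.dvd_of_emod_eq_zero h
    simp [hk, CharTwo.two_eq_zero, (coreF4 K).xGL_zero, one_mem]
  · exact xGL_mem_tailU h _

/-- Two root elements commute modulo the following orbits. -/
theorem xGL_swap {i : ℕ} (hi : i < 12) {r s : ℕ} (hs : s ∈ [rootA i, rootB i])
    (hr : r ∈ tailList 0) (t u : K) : ∃ w ∈ tailU K (i + 1),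
      (coreF4 K).xGL s u * (coreF4 K).xGL r t = (coreF4 K).xGL r t * (coreF4 K).xGL s u * w := by
  by_cases hne : s = r
  · subst hne
    exact ⟨1, one_mem _, by rw [mul_one, ← ChevCore.xGL_add, ← ChevCore.xGL_add, add_comm]⟩
  have hrp := tailList_pos_mem r hr
  have hsp : chevF4.IsPosRoot s := by
    have := seqF4_facts ⟨i, hi⟩
    simp only [List.mem_cons, List.not_mem_nil, or_false] at hs
    rcases hs with rfl | rfl
    exacts [this.2.2.1, this.2.2.2.1]
  refine ⟨_, commWord_tail hi hs hr hne t u, (coreF4 K).xGL_comm hrp.1 hsp.1 hne (fun e => ?_) t u⟩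
  exact (coreF4 K).R.not_pos_and_neg hsp (by rw [e, (coreF4 K).R.isNeg_neg_iff hrp.1]; exact hrp)

theorem conj_xGL_tail : ∀ k i : ℕ, i + k = 12 → ∀ r ∈ tailList 0, ∀ (t : K), ∀ g ∈ tailU K i,
    ((coreF4 K).xGL r t)⁻¹ * g * (coreF4 K).xGL r t ∈ tailU K i := by
  intro k
  induction k with
  | zero =>
    intro i hi r _ t g hg
    obtain rfl : i = 12 := by omega
    rw [tailU_twelve, Subgroup.mem_bot] at hg ⊢
    rw [hg, mul_one, inv_mul_cancel]
  | succ k ih =>
    intro i hi r hr t g hg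
    have hi' : i < 12 := by omega
    refine Subgroup.closure_induction
      (p := fun g _ => ((coreF4 K).xGL r t)⁻¹ * g * (coreF4 K).xGL r t ∈ tailU K i) ?_ ?_ ?_ ?_ hg
    · rintro _ ⟨s, hs, u, rfl⟩
      have hs' : s ∈ tailList i := hs
      rw [tailList_succ ⟨i, hi'⟩] at hs'
      have hlow : s ∈ [rootA i, rootB i] ∨ s ∈ tailList (i + 1) := by
        simp only [List.mem_cons, List.not_mem_nil, or_false] at hs' ⊢
        tauto
      rcases hlow with hlow | hlow
      · obtain ⟨w, hw, e⟩ := xGL_swap hi' hlow hr t u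
        rw [mul_assoc, e, ← mul_assoc, ← mul_assoc, inv_mul_cancel, one_mul]
        exact mul_mem (xGL_mem_tailU hs u) (tailU_mono (by omega) hw)
      · exact tailU_mono (by omega) (ih (i + 1) (by omega) r hr t _ (xGL_mem_tailU hlow u))
    · simp
    · intro x y _ _ hx hy
      rw [show ((coreF4 K).xGL r t)⁻¹ * (x * y) * (coreF4 K).xGL r t =
        (((coreF4 K).xGL r t)⁻¹ * x * (coreF4 K).xGL r t) *
          (((coreF4 K).xGL r t)⁻¹ * y * (coreF4 K).xGL r t) by group]
      exact mul_mem hx hy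
    · intro x _ hx
      rw [show ((coreF4 K).xGL r t)⁻¹ * x⁻¹ * (coreF4 K).xGL r t =
        (((coreF4 K).xGL r t)⁻¹ * x * (coreF4 K).xGL r t)⁻¹ by group]
      exact inv_mem hx

theorem tail_le_normalizer {i : ℕ} (hi : i ≤ 12) :
    tailU K 0 ≤ Subgroup.normalizer (tailU K i : Set (GL chevF4.Idx K)) := by
  refine (coreF4 K).Ucl_le fun r hr t => Subgroup.mem_normalizer_iff.2 fun g => ⟨fun hg => ?_, fun hg => ?_⟩
  · simpa [(coreF4 K).xGL_inv] using conj_xGL_tail (12 - i) i (by omega) r hr (-t) g hg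
  · simpa [mul_assoc] using conj_xGL_tail (12 - i) i (by omega) r hr t _ hg

/-- The whole unipotent group normalises every term. -/
theorem conj_tail {i : ℕ} (hi : i ≤ 12) {x : GL chevF4.Idx K} (hx : x ∈ tailU K 0)
    {g : GL chevF4.Idx K} (hg : g ∈ tailU K i) : x * g * x⁻¹ ∈ tailU K i :=
  (Subgroup.mem_normalizer_iff.1 (tail_le_normalizer hi hx) g).1 hg

/-- Each orbit is central modulo the following ones. -/
theorem comm_tail {i : ℕ} (hi : i < 12) {x g : GL chevF4.Idx K} (hx : x ∈ tailU K 0)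
    (hg : g ∈ tailU K i) : ⁅x, g⁆ ∈ tailU K (i + 1) := by
  have h0 : ∀ {g}, g ∈ tailU K i → g ∈ tailU K 0 := fun h => tailU_mono (Nat.zero_le i) h
  have hi1 : i + 1 ≤ 12 := hi
  have gen : ∀ r ∈ tailList 0, ∀ t : K, ∀ g ∈ tailU K i,
      ⁅(coreF4 K).xGL r t, g⁆ ∈ tailU K (i + 1) := by
    intro r hr t g hg
    refine Subgroup.closure_induction
      (p := fun g _ => ⁅(coreF4 K).xGL r t, g⁆ ∈ tailU K (i + 1)) ?_ ?_ ?_ ?_ hg
    · rintro _ ⟨s, hs, u, rfl⟩
      have hs' : s ∈ tailList i := hs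
      rw [tailList_succ ⟨i, hi⟩] at hs'
      have hlow : s ∈ [rootA i, rootB i] ∨ s ∈ tailList (i + 1) := by
        simp only [List.mem_cons, List.not_mem_nil, or_false] at hs' ⊢
        tauto
      rcases hlow with hlow | hlow
      · obtain ⟨w, hw, e⟩ := xGL_swap hi hlow hr t u
        rw [show ⁅(coreF4 K).xGL r t, (coreF4 K).xGL s u⁆ =
          (coreF4 K).xGL r t * (coreF4 K).xGL s u * ((coreF4 K).xGL s u * (coreF4 K).xGL r t)⁻¹ by
            rw [commutatorElement_def]; group, e]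
        have h1 := conj_tail hi1 (mul_mem (xGL_mem_tailU hr t) (h0 (xGL_mem_tailU hs u))) (inv_mem hw)
        simpa [mul_assoc] using h1
      · have h2 := xGL_mem_tailU (K := K) hlow u
        rw [commutatorElement_def]
        exact mul_mem (conj_tail hi1 (xGL_mem_tailU hr t) h2) (inv_mem h2)
    · simp [one_mem]
    · intro a b ha _ h1 h2
      rw [show ⁅(coreF4 K).xGL r t, a * b⁆ = ⁅(coreF4 K).xGL r t, a⁆ *
        (a * ⁅(coreF4 K).xGL r t, b⁆ * a⁻¹) by simp only [commutatorElement_def]; group]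
      exact mul_mem h1 (conj_tail hi1 (h0 ha) h2)
    · intro a ha h1
      rw [show ⁅(coreF4 K).xGL r t, a⁻¹⁆ = a⁻¹ * ⁅(coreF4 K).xGL r t, a⁆⁻¹ * a⁻¹⁻¹ by
        simp only [commutatorElement_def]; group]
      exact conj_tail hi1 (h0 (inv_mem ha)) (inv_mem h1)
  revert g
  refine Subgroup.closure_induction
    (p := fun x _ => ∀ {g}, g ∈ tailU K i → ⁅x, g⁆ ∈ tailU K (i + 1)) ?_ ?_ ?_ ?_ hx
  · rintro _ ⟨r, hr, t, rfl⟩ g hg
    exact gen r hr t g hg
  · intro g _; simp [one_mem]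
  · intro a b ha _ h1 h2 g hg
    rw [show ⁅a * b, g⁆ = a * ⁅b, g⁆ * a⁻¹ * ⁅a, g⁆ by simp only [commutatorElement_def]; group]
    exact mul_mem (conj_tail hi1 ha (h2 hg)) (h1 hg)
  · intro a ha h1 g hg
    rw [show ⁅a⁻¹, g⁆ = a⁻¹ * ⁅a, g⁆⁻¹ * a⁻¹⁻¹ by simp only [commutatorElement_def]; group]
    exact conj_tail hi1 (inv_mem ha) (inv_mem (h1 hg))

/-- An element of one orbit. -/
noncomputable def orbElt (i : ℕ) (s t : K) : GL chevF4.Idx K :=
  (coreF4 K).xGL (rootA i) s * (coreF4 K).xGL (rootB i) t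

omit [CharP K 2] in
theorem orbElt_mem {i : ℕ} (hi : i < 12) (s t : K) : orbElt i s t ∈ tailU K i :=
  mul_mem (xGL_mem_tailU (rootA_mem hi) s) (xGL_mem_tailU (rootB_mem hi) t)

/-- Products of orbit elements add modulo the following orbits. -/
theorem orbElt_mul {i : ℕ} (hi : i < 12) (s t s' t' : K) :
    ∃ w ∈ tailU K (i + 1), orbElt i s t * orbElt i s' t' = orbElt i (s + s') (t + t') * w := by
  obtain ⟨w, hw, e⟩ := xGL_swap hi (r := rootA i) (s := rootB i) (by simp)
    (tailList_sub 0 i (Nat.zero_le i) _ (rootA_mem hi)) s' t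
  have hb' : (coreF4 K).xGL (rootB i) t' ∈ tailU K 0 :=
    tailU_mono (Nat.zero_le i) (xGL_mem_tailU (rootB_mem hi) t')
  refine ⟨((coreF4 K).xGL (rootB i) t')⁻¹ * w * (coreF4 K).xGL (rootB i) t',
    by simpa using conj_tail (i := i + 1) hi (inv_mem hb') hw, ?_⟩
  simp only [orbElt, ChevCore.xGL_add]
  calc (coreF4 K).xGL (rootA i) s * (coreF4 K).xGL (rootB i) t *
        ((coreF4 K).xGL (rootA i) s' * (coreF4 K).xGL (rootB i) t')
      = (coreF4 K).xGL (rootA i) s * ((coreF4 K).xGL (rootB i) t * (coreF4 K).xGL (rootA i) s') *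
        (coreF4 K).xGL (rootB i) t' := by group
    _ = _ := by rw [e]; group

theorem exists_orbElt {i : ℕ} (hi : i < 12) {g : GL chevF4.Idx K} (hg : g ∈ tailU K i) :
    ∃ s t, (orbElt i s t)⁻¹ * g ∈ tailU K (i + 1) := by
  have hi1 : i + 1 ≤ 12 := hi
  have h0 : ∀ {g}, g ∈ tailU K i → g ∈ tailU K 0 := fun h => tailU_mono (Nat.zero_le i) h
  have hprod : ∀ a ∈ tailU K i, ∀ b ∈ tailU K i, (∃ s t, (orbElt i s t)⁻¹ * a ∈ tailU K (i + 1)) →
      (∃ s t, (orbElt i s t)⁻¹ * b ∈ tailU K (i + 1)) →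
      ∃ s t, (orbElt i s t)⁻¹ * (a * b) ∈ tailU K (i + 1) := by
    rintro a ha b hb ⟨s, t, h1⟩ ⟨s', t', h2⟩
    obtain ⟨w, hw, e⟩ := orbElt_mul (K := K) hi s t s' t'
    refine ⟨s + s', t + t', ?_⟩
    have e' : (orbElt i (s + s') (t + t'))⁻¹ = w * (orbElt i s' t')⁻¹ * (orbElt i s t)⁻¹ := by
      rw [show w = (orbElt i (s + s') (t + t'))⁻¹ * (orbElt i s t * orbElt i s' t') by rw [e]; group]
      group
    rw [e', show w * (orbElt i s' t')⁻¹ * (orbElt i s t)⁻¹ * (a * b) =
      w * ((orbElt i s' t')⁻¹ * ((orbElt i s t)⁻¹ * a) * (orbElt i s' t')⁻¹⁻¹) *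
        ((orbElt i s' t')⁻¹ * b) by group]
    exact mul_mem (mul_mem hw (conj_tail hi1 (inv_mem (h0 (orbElt_mem hi s' t'))) h1)) h2
  have hgen : ∀ (r : ℕ), r ∈ tailList i → ∀ u : K,
      ∃ s t, (orbElt i s t)⁻¹ * (coreF4 K).xGL r u ∈ tailU K (i + 1) := by
    intro r hr u
    rw [tailList_succ ⟨i, hi⟩] at hr
    simp only [List.mem_cons] at hr
    rcases hr with rfl | rfl | hr
    · exact ⟨u, 0, by simp [orbElt, (coreF4 K).xGL_zero, one_mem]⟩
    · exact ⟨0, u, by simp [orbElt, (coreF4 K).xGL_zero, one_mem]⟩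
    · exact ⟨0, 0, by simpa [orbElt, (coreF4 K).xGL_zero] using xGL_mem_tailU hr u⟩
  refine (Subgroup.closure_induction (p := fun g hg => (∃ s t, (orbElt i s t)⁻¹ * g ∈ tailU K (i + 1)) ∧
    ∃ s t, (orbElt i s t)⁻¹ * g⁻¹ ∈ tailU K (i + 1)) ?_ ?_ ?_ ?_ hg).1
  · rintro _ ⟨r, hr, u, rfl⟩
    exact ⟨hgen r hr u, by rw [(coreF4 K).xGL_inv]; exact hgen r hr (-u)⟩
  · exact ⟨⟨0, 0, by simp [orbElt, (coreF4 K).xGL_zero, one_mem]⟩,
      ⟨0, 0, by simp [orbElt, (coreF4 K).xGL_zero, one_mem]⟩⟩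
  · intro a b ha hb h1 h2
    exact ⟨hprod a ha b hb h1.1 h2.1, by rw [mul_inv_rev]; exact hprod _ (inv_mem hb) _ (inv_mem ha) h2.2 h1.2⟩
  · intro a _ h1
    exact ⟨h1.2, by rw [inv_inv]; exact h1.1⟩

section card

variable [Fintype K]

/-- The map onto one term from an orbit and the following term. -/
noncomputable def orbMap {i : ℕ} (hi : i < 12) (p : (K × K) × ↥(tailU K (i + 1))) : ↥(tailU K i) :=
  ⟨orbElt i p.1.1 p.1.2 * p.2, mul_mem (orbElt_mem hi _ _) (tailU_mono (Nat.le_succ i) p.2.2)⟩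

omit [Fintype K] in
theorem orbMap_surjective {i : ℕ} (hi : i < 12) : Function.Surjective (orbMap (K := K) hi) := by
  intro g
  obtain ⟨s, t, h⟩ := exists_orbElt hi g.2
  exact ⟨((s, t), ⟨_, h⟩), Subtype.ext (by simp [orbMap])⟩

omit [CharP K 2] in
theorem card_tailU_zero : Nat.card ↥(tailU K 0) = Fintype.card K ^ 24 := by
  rw [tailU_zero, (coreF4 K).posUnipotent_eq, (coreF4 K).card_Ucl (coreF4 K).R.isClosed_pos,
    ncard_isPosRoot (D := chevF4) (N := 24) (by decide +kernel)]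

theorem card_tailU : ∀ k i, i + k = 12 → Nat.card ↥(tailU K i) = Fintype.card K ^ (2 * k) := by
  have up : ∀ k i, i + k = 12 → Nat.card ↥(tailU K i) ≤ Fintype.card K ^ (2 * k) := by
    intro k
    induction k with
    | zero =>
      intro i hi
      obtain rfl : i = 12 := by omega
      rw [tailU_twelve, Subgroup.card_bot, mul_zero, pow_zero]
    | succ k ih =>
      intro i hi
      refine (Nat.card_le_card_of_surjective _ (orbMap_surjective (K := K) (i := i) (by omega))).trans ?_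
      rw [Nat.card_prod, Nat.card_prod, Nat.card_eq_fintype_card, mul_add, mul_one, pow_add,
        show Fintype.card K * Fintype.card K = Fintype.card K ^ 2 from (sq _).symm,
        mul_comm (Fintype.card K ^ (2 * k))]
      exact Nat.mul_le_mul_left _ (ih (i + 1) (by omega))
  have down : ∀ i, i ≤ 12 → Fintype.card K ^ 24 ≤ Fintype.card K ^ (2 * i) * Nat.card ↥(tailU K i) := by
    intro i
    induction i with
    | zero => intro _; rw [card_tailU_zero, mul_zero, pow_zero, one_mul]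
    | succ i ih =>
      intro hi
      refine (ih (by omega)).trans ?_
      refine (Nat.mul_le_mul_left _ (Nat.card_le_card_of_surjective _
        (orbMap_surjective (K := K) (i := i) (by omega)))).trans (le_of_eq ?_)
      rw [Nat.card_prod, Nat.card_prod, Nat.card_eq_fintype_card]
      ring
  intro k i hi
  refine le_antisymm (up k i hi) (Nat.le_of_mul_le_mul_left ?_
    (pow_pos Fintype.card_pos (2 * i) : 0 < Fintype.card K ^ (2 * i)))
  rw [← pow_add, show 2 * i + 2 * k = 24 by omega]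
  exact down i (by omega)

theorem orbMap_injective {i : ℕ} (hi : i < 12) : Function.Injective (orbMap (K := K) hi) := by
  refine ((Nat.bijective_iff_surjective_and_card (orbMap (K := K) hi)).2
    ⟨orbMap_surjective hi, ?_⟩).1
  rw [Nat.card_prod, Nat.card_prod, Nat.card_eq_fintype_card,
    card_tailU (11 - i) (i + 1) (by omega), card_tailU (12 - i) i (by omega),
    show 2 * (12 - i) = 2 + 2 * (11 - i) by omega, pow_add, sq]

/-- The parameters of an orbit are unique. -/
theorem orbElt_unique {i : ℕ} (hi : i < 12) {s t s' t' : K} {g : GL chevF4.Idx K}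
    (h : (orbElt i s t)⁻¹ * g ∈ tailU K (i + 1)) (h' : (orbElt i s' t')⁻¹ * g ∈ tailU K (i + 1)) :
    s = s' ∧ t = t' := by
  have e := @orbMap_injective K _ _ _ i hi ((s, t), ⟨_, h⟩) ((s', t'), ⟨_, h'⟩)
    (Subtype.ext (by simp [orbMap]))
  simp only [Prod.mk.injEq] at e
  exact e.1

open Classical in
/-- The parameter of the second root of an orbit. -/
noncomputable def orbCoord (i : ℕ) (g : GL chevF4.Idx K) : K :=
  if h : ∃ p : K × K, (orbElt i p.1 p.2)⁻¹ * g ∈ tailU K (i + 1) then h.choose.2 else 0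

theorem orbCoord_eq {i : ℕ} (hi : i < 12) {g : GL chevF4.Idx K} {s t : K}
    (h : (orbElt i s t)⁻¹ * g ∈ tailU K (i + 1)) : orbCoord i g = t := by
  have he : ∃ p : K × K, (orbElt i p.1 p.2)⁻¹ * g ∈ tailU K (i + 1) := ⟨(s, t), h⟩
  rw [orbCoord, dif_pos he]
  exact (orbElt_unique hi he.choose_spec h).2

theorem orbCoord_orbElt {i : ℕ} (hi : i < 12) (s t : K) : orbCoord i (orbElt i s t) = t :=
  orbCoord_eq hi (s := s) (by rw [inv_mul_cancel]; exact one_mem _)

theorem orbCoord_mul {i : ℕ} (hi : i < 12) {a b : GL chevF4.Idx K} (ha : a ∈ tailU K i)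
    (hb : b ∈ tailU K i) : orbCoord i (a * b) = orbCoord i a + orbCoord i b := by
  obtain ⟨s, t, h1⟩ := exists_orbElt hi ha
  obtain ⟨s', t', h2⟩ := exists_orbElt hi hb
  rw [orbCoord_eq hi h1, orbCoord_eq hi h2]
  obtain ⟨w, hw, e⟩ := orbElt_mul (K := K) hi s t s' t'
  refine orbCoord_eq hi (s := s + s') ?_
  have e' : (orbElt i (s + s') (t + t'))⁻¹ = w * (orbElt i s' t')⁻¹ * (orbElt i s t)⁻¹ := by
    rw [show w = (orbElt i (s + s') (t + t'))⁻¹ * (orbElt i s t * orbElt i s' t') by rw [e]; group]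
    group
  rw [e', show w * (orbElt i s' t')⁻¹ * (orbElt i s t)⁻¹ * (a * b) =
    w * ((orbElt i s' t')⁻¹ * ((orbElt i s t)⁻¹ * a) * (orbElt i s' t')⁻¹⁻¹) *
      ((orbElt i s' t')⁻¹ * b) by group]
  exact mul_mem (mul_mem hw (conj_tail (i := i + 1) hi
    (inv_mem (tailU_mono (Nat.zero_le i) (orbElt_mem hi s' t'))) h1)) h2

theorem orbCoord_of_mem {i : ℕ} (hi : i < 12) {g : GL chevF4.Idx K} (hg : g ∈ tailU K (i + 1)) :
    orbCoord i g = 0 :=
  orbCoord_eq hi (s := 0) (by simpa [orbElt, (coreF4 K).xGL_zero] using hg)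

end card

end CfsgLib.LargeReeMult
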