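import Cfsg.Agent.Lib.LargeReeMult.Exponents
import Cfsg.Agent.Lib.LargeReeMult.Layers
import Cfsg.Agent.Lib.SuzukiGroup.Multiplier

/-!
# The layers of the unipotent group of `²F₄(q)`
-/

set_option autoImplicit false

namespace CfsgLib.LargeReeMult

open Cfsg.Lie CfsgLib.ChevStr CfsgLib.Twisted CfsgLib.LargeReeAut CfsgLib.TwistAut
open scoped MatrixGroups commutatorElement

universe u

theorem tailList_stable : ∀ i : Fin 13, ∀ r ∈ tailList i, subF4.root r ∈ tailList i := by
  decide +kernel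

variable (K : Type*) [Field K] [Fintype K] [CharP K 2] (m : ℕ)

/-- A term of the series in the twisted group. -/
noncomputable def tailG (i : ℕ) : Subgroup ↥(twistedF4 K (2 ^ m)) :=
  (tailU K i).subgroupOf (twistedF4 K (2 ^ m))

open Classical in
/-- The character on an orbit. -/
noncomputable def chiG (i : ℕ) (x : ↥(twistedF4 K (2 ^ m))) : K :=
  if h : ∃ c : Fin chevF4.rank → Kˣ, (coreF4 K).R.torus c = x then
    ((coreF4 K).R.torusChar h.choose ((coreF4 K).R.α (rootB i)) : K) else 1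

/-- The torus of the twisted group. -/
def torG : Set ↥(twistedF4 K (2 ^ m)) :=
  {x | ∃ c : Fin chevF4.rank → Kˣ, (coreF4 K).R.torus c = x}

variable {K m}

omit [CharP K 2] in
theorem chiG_eq (i : ℕ) {x : ↥(twistedF4 K (2 ^ m))} {c : Fin chevF4.rank → Kˣ}
    (h : (coreF4 K).R.torus c = x) :
    chiG K m i x = ((coreF4 K).R.torusChar c ((coreF4 K).R.α (rootB i)) : K) := by
  have he : ∃ c : Fin chevF4.rank → Kˣ, (coreF4 K).R.torus c = x := ⟨c, h⟩
  rw [chiG, dif_pos he]
  have hr : rootB i < chevF4.nroots := by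
    rcases Nat.lt_or_ge i 12 with hi | hi
    · exact (seqF4_facts ⟨i, hi⟩).2.1
    · rw [rootB, List.getD_eq_default _ _ (by simpa [seqF4] using hi)]; decide
  have e := he.choose_spec.trans h.symm
  generalize he.choose = d at e ⊢
  have h1 := (coreF4 K).acts_torus d ⟨rootB i, hr⟩ (1 : K)
  rw [e, (coreF4 K).acts_torus c ⟨rootB i, hr⟩, mul_one, mul_one] at h1
  exact ((coreF4 K).xGL_injective hr h1).symm

omit [Fintype K] [CharP K 2] in
theorem tailU_conj_torus {i : ℕ} (c : Fin chevF4.rank → Kˣ) {g : GL chevF4.Idx K}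
    (hg : g ∈ tailU K i) : (coreF4 K).R.torus c * g * ((coreF4 K).R.torus c)⁻¹ ∈ tailU K i :=
  (Subgroup.mem_normalizer_iff.1 ((coreF4 K).torus_normalizes _ ⟨c, rfl⟩) g).1 hg

theorem orbCoord_torus {i : ℕ} (hi : i < 12) (c : Fin chevF4.rank → Kˣ) {g : GL chevF4.Idx K}
    (hg : g ∈ tailU K i) : orbCoord i ((coreF4 K).R.torus c * g * ((coreF4 K).R.torus c)⁻¹) =
      ((coreF4 K).R.torusChar c ((coreF4 K).R.α (rootB i)) : K) * orbCoord i g := by
  obtain ⟨s, t, h⟩ := exists_orbElt hi hg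
  rw [orbCoord_eq hi h]
  obtain ⟨ha, hb, -⟩ := seqF4_facts ⟨i, hi⟩
  refine orbCoord_eq hi (s := ((coreF4 K).R.torusChar c ((coreF4 K).R.α (rootA i)) : K) * s) ?_
  have e : orbElt i (((coreF4 K).R.torusChar c ((coreF4 K).R.α (rootA i)) : K) * s)
      (((coreF4 K).R.torusChar c ((coreF4 K).R.α (rootB i)) : K) * t) =
      (coreF4 K).R.torus c * orbElt i s t * ((coreF4 K).R.torus c)⁻¹ := by
    rw [orbElt, orbElt, ← conj_xGL c ha, ← conj_xGL c hb, ← map_mul, MulAut.conj_apply]
  rw [e, show ((coreF4 K).R.torus c * orbElt i s t * ((coreF4 K).R.torus c)⁻¹)⁻¹ *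
    ((coreF4 K).R.torus c * g * ((coreF4 K).R.torus c)⁻¹) =
    (coreF4 K).R.torus c * ((orbElt i s t)⁻¹ * g) * ((coreF4 K).R.torus c)⁻¹ by group]
  exact tailU_conj_torus c h

variable (hn : Fintype.card K = 2 * (2 ^ m * 2 ^ m))

include hn

/-- A fixed element with vanishing coordinate lies in the next term. -/
theorem mem_of_orbCoord_eq_zero {i : ℕ} (hi : i < 12) {g : GL chevF4.Idx K} (hg : g ∈ tailU K i)
    (hG : g ∈ twistedF4 K (2 ^ m)) (h0 : orbCoord i g = 0) : g ∈ tailU K (i + 1) := by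
  obtain ⟨s, t, h⟩ := exists_orbElt hi hg
  rw [orbCoord_eq hi h] at h0
  subst h0
  obtain ⟨ha, hb, -, -, -, hra, hrb, -⟩ := seqF4_facts ⟨i, hi⟩
  have hst : (frobF4 K m).Stable {r | r ∈ tailList (i + 1)} := fun r hr =>
    tailList_stable ⟨i + 1, by omega⟩ r hr
  set x := (coreF4 K).xGL (rootA i) s with hx
  have e : orbElt i s 0 = x := by rw [orbElt, (coreF4 K).xGL_zero, mul_one]
  rw [e] at h
  obtain ⟨hGr, hfix⟩ := (frobF4 K m).mem_fixedSub.1 (le_fixedF4 K hn hG)
  have hyG : x⁻¹ * g ∈ chevF4.group K := mul_mem (inv_mem ((coreF4 K).xGL_mem_group _ _)) hGr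
  have h1 : g = (coreF4 K).xGL (rootB i) (s ^ (2 ^ m * subF4.ex (rootA i))) *
      (frobF4 K m).act (x⁻¹ * g) := by
    conv_lhs => rw [← hfix, ← mul_inv_cancel_left x g]
    rw [(frobF4 K m).act_mul ((coreF4 K).xGL_mem_group _ _) hyG, hx, frobF4_act K m ha, hra]
  have h2 : (orbElt i 0 (s ^ (2 ^ m * subF4.ex (rootA i))))⁻¹ * g ∈ tailU K (i + 1) := by
    conv => arg 2; rw [h1]
    rw [orbElt, (coreF4 K).xGL_zero, one_mul, inv_mul_cancel_left]
    exact (frobF4 K m).act_Ucl hst _ h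
  obtain ⟨h3, -⟩ := orbElt_unique hi h2 (by rw [e]; exact h : (orbElt i s 0)⁻¹ * g ∈ tailU K (i + 1))
  rwa [hx, ← h3, (coreF4 K).xGL_zero, inv_one, one_mul] at h

omit [Fintype K] [CharP K 2] hn in
theorem tailG_mono {i j : ℕ} (h : i ≤ j) : tailG K m j ≤ tailG K m i :=
  Subgroup.comap_mono (tailU_mono h)

omit [Fintype K] [CharP K 2] hn in
theorem tailG_twelve : tailG K m 12 = ⊥ := by
  rw [tailG, tailU_twelve]
  exact Subgroup.bot_subgroupOf _

variable (K m) in
/-- The coordinate on a term of the series as a homomorphism. -/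
noncomputable def coordHom {i : ℕ} (hi : i < 12) : ↥(tailG K m i) →* Multiplicative K where
  toFun x := Multiplicative.ofAdd (orbCoord i ((x : ↥(twistedF4 K (2 ^ m))) : GL chevF4.Idx K))
  map_one' := by
    show Multiplicative.ofAdd (orbCoord i (1 : GL chevF4.Idx K)) = 1
    rw [orbCoord_of_mem hi (one_mem _)]; rfl
  map_mul' x y := congrArg Multiplicative.ofAdd (orbCoord_mul hi x.2 y.2)

theorem coordHom_ker {i : ℕ} (hi : i < 12) :
    (coordHom K m hi).ker = (tailG K m (i + 1)).subgroupOf (tailG K m i) := by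
  ext x
  rw [MonoidHom.mem_ker, Subgroup.mem_subgroupOf]
  constructor
  · intro h
    exact mem_of_orbCoord_eq_zero hn hi x.2 x.1.2 (Multiplicative.ofAdd.injective h)
  · intro h
    exact congrArg Multiplicative.ofAdd (orbCoord_of_mem hi h)

theorem card_tailG_zero : Nat.card ↥(tailG K m 0) = Fintype.card K ^ 12 := by
  have g := gensF4 K hn
  have hN : Set.ncard {r | chevF4.IsPosRoot r} = 24 := ncard_isPosRoot (by decide +kernel)
  refine Nat.pow_left_injective (show 2 ≠ 0 by norm_num) ?_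
  show _ ^ 2 = _ ^ 2
  rw [tailG, ← Subgroup.inf_subgroupOf_right, Nat.card_congr (Subgroup.subgroupOfEquivOfLe
    (inf_le_right : tailU K 0 ⊓ twistedF4 K (2 ^ m) ≤ twistedF4 K (2 ^ m))).toEquiv, tailU_zero,
    g.card_U1, hN, Nat.card_eq_fintype_card]
  ring

theorem card_step {i : ℕ} (hi : i < 12) : Nat.card ↥(tailG K m i) =
    Nat.card (coordHom K m hi).range * Nat.card ↥(tailG K m (i + 1)) := by
  rw [Subgroup.card_eq_card_quotient_mul_card_subgroup (coordHom K m hi).ker,
    Nat.card_congr (QuotientGroup.quotientKerEquivRange (coordHom K m hi)).toEquiv, coordHom_ker hn hi,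
    Nat.card_congr (Subgroup.subgroupOfEquivOfLe (tailG_mono (K := K) (m := m) (Nat.le_succ i))).toEquiv]

omit hn in
theorem card_range_le {i : ℕ} (hi : i < 12) : Nat.card (coordHom K m hi).range ≤ Fintype.card K := by
  rw [← Nat.card_eq_fintype_card (α := K), ← Nat.card_congr (Multiplicative.toAdd (α := K))]
  exact Nat.card_le_card_of_injective _ Subtype.val_injective

theorem coordHom_surjective {i : ℕ} (hi : i < 12) : Function.Surjective (coordHom K m hi) := by
  have hlow : ∀ k j, j + k = 12 → Nat.card ↥(tailG K m j) ≤ Fintype.card K ^ k := by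
    intro k
    induction k with
    | zero =>
      intro j hj
      obtain rfl : j = 12 := by omega
      rw [tailG_twelve, Subgroup.card_bot, pow_zero]
    | succ k ih =>
      intro j hj
      rw [card_step hn (show j < 12 by omega), pow_succ']
      exact Nat.mul_le_mul (card_range_le (K := K) (m := m) _) (ih (j + 1) (by omega))
  have hup : ∀ j, j ≤ i → Fintype.card K ^ 12 ≤ Fintype.card K ^ j * Nat.card ↥(tailG K m j) := by
    intro j
    induction j with
    | zero => intro _; rw [card_tailG_zero hn, pow_zero, one_mul]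
    | succ j ih =>
      intro hj
      refine (ih (by omega)).trans ?_
      rw [card_step hn (show j < 12 by omega), pow_succ, mul_assoc]
      exact Nat.mul_le_mul_left _ (Nat.mul_le_mul_right _ (card_range_le (K := K) (m := m) _))
  have h1 := (hup i le_rfl).trans (Nat.mul_le_mul_left _ ((card_step hn hi).le.trans
    (Nat.mul_le_mul_left _ (hlow (11 - i) (i + 1) (by omega)))))
  rw [show Fintype.card K ^ 12 = Fintype.card K ^ i * (Fintype.card K * Fintype.card K ^ (11 - i)) by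
    rw [← pow_succ', ← pow_add]; congr 1; omega] at h1
  have hpos : 0 < Fintype.card K := Fintype.card_pos
  have h2 := Nat.le_of_mul_le_mul_right (Nat.le_of_mul_le_mul_left h1 (pow_pos hpos _)) (pow_pos hpos _)
  rw [← MonoidHom.range_eq_top]
  refine Subgroup.eq_top_of_le_card _ ?_
  rwa [Nat.card_congr (Multiplicative.toAdd (α := K)), Nat.card_eq_fintype_card]

theorem exists_coord {i : ℕ} (hi : i < 12) (a : K) :
    ∃ x ∈ tailG K m i, orbCoord i (x : GL chevF4.Idx K) = a := by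
  obtain ⟨x, hx⟩ := coordHom_surjective hn hi (Multiplicative.ofAdd a)
  exact ⟨x, x.2, Multiplicative.ofAdd.injective hx⟩

variable (hm : 1 ≤ m)

include hm

theorem chiG_moves {i : ℕ} (hi : i < 12) : ∃ t ∈ torG K m, chiG K m i t ≠ 1 := by
  obtain ⟨g, -, hg1, -⟩ := exists_gen hn hm
  obtain ⟨c, hc, h⟩ := char_surjective hn hi g
  refine ⟨⟨_, hc⟩, ⟨c, rfl⟩, ?_⟩
  rw [chiG_eq i (x := ⟨_, hc⟩) (c := c) rfl, h]
  exact fun e => hg1 (Units.ext e)

/-- The layers of the unipotent group. -/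
noncomputable def layersF4 : Layers ↥(twistedF4 K (2 ^ m)) K where
  len := 12
  S := tailG K m
  S_len := tailG_twelve
  mono i _ := tailG_mono (Nat.le_succ i)
  le_top i _ := tailG_mono (Nat.zero_le i)
  c i x := orbCoord i (x : GL chevF4.Idx K)
  c_mul _ hi _ hx _ hy := orbCoord_mul hi hx hy
  c_ker _ hi x hx := ⟨fun h => mem_of_orbCoord_eq_zero hn hi hx x.2 h, fun h => orbCoord_of_mem hi h⟩
  c_surj _ hi a := exists_coord hn hi a
  comm _ hi _ hx _ hq := comm_tail hi hx hq
  T := torG K m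
  T_comm := by
    rintro s ⟨c, hc⟩ t ⟨d, hd⟩
    refine Subtype.ext ?_
    show (s : GL chevF4.Idx K) * (t : GL chevF4.Idx K) = (t : GL chevF4.Idx K) * (s : GL chevF4.Idx K)
    rw [← hc, ← hd, ← map_mul, ← map_mul, mul_comm]
  χ := chiG K m
  conj i _ := by
    rintro t ⟨c, hc⟩ x hx
    show (t : GL chevF4.Idx K) * (x : GL chevF4.Idx K) * (t : GL chevF4.Idx K)⁻¹ ∈ tailU K i
    rw [← hc]
    exact tailU_conj_torus c hx
  c_conj i hi := by
    rintro t ⟨c, hc⟩ x hx
    show orbCoord i ((t : GL chevF4.Idx K) * (x : GL chevF4.Idx K) * (t : GL chevF4.Idx K)⁻¹) = _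
    rw [chiG_eq i hc, ← hc]
    exact orbCoord_torus hi c hx
  moves _ hi := chiG_moves hn hm hi

theorem noPairing_of_good {j i : ℕ} (hji : j < i) (hi : i < 12) (hgood : (j, i) ∉ badPairs) :
    (layersF4 hn hm).NoPairing.{u} j i := fun M _ B _ hr hinv _ a b =>
  biadd_eq_one_of_good hn hm hji hi hgood hr (fun c hc a b => by
    have h := hinv ⟨_, hc⟩ ⟨c, rfl⟩ a b
    change B (chiG K m j ⟨_, hc⟩ * a) (chiG K m i ⟨_, hc⟩ * b) = _ at h
    rwa [chiG_eq j (x := ⟨_, hc⟩) (c := c) rfl, chiG_eq i (x := ⟨_, hc⟩) (c := c) rfl] at h) a b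

theorem noPairing_self {i : ℕ} (hi : i < 12) : (layersF4 hn hm).NoPairing.{u} i i := by
  intro M _ B hl hr hinv _
  obtain ⟨g, -, hg1, hg3⟩ := exists_gen hn hm
  refine CfsgLib.SuzukiGroup.biadd_eq_one_of_scale
    ⟨(g : K), g.ne_zero, fun e => hg1 (Units.ext e), fun e => hg3 (Units.ext ?_)⟩ hl hr
    fun t a b ht => ?_
  · rw [Units.val_pow_eq_pow_val, Units.val_one]
    have h2 : (2 : K) = 0 := CharTwo.two_eq_zero
    linear_combination ((g : K) + 1) * e - ((g : K) ^ 2) * h2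
  · obtain ⟨c, hc, h⟩ := char_surjective hn hi (Units.mk0 t ht)
    have h1 := hinv ⟨_, hc⟩ ⟨c, rfl⟩ a b
    change B (chiG K m i ⟨_, hc⟩ * a) (chiG K m i ⟨_, hc⟩ * b) = _ at h1
    rwa [chiG_eq i (x := ⟨_, hc⟩) (c := c) rfl, h] at h1

end CfsgLib.LargeReeMult
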