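import Cfsg.Agent.Lib.LargeReeMult.Pairing

/-!
# Lifts of the exceptional pairs commute, and the `2`-part of the multiplier of `²F₄(q)`
-/

set_option autoImplicit false

namespace CfsgLib.LargeReeMult

open Cfsg.Lie CfsgLib.ChevStr CfsgLib.Twisted CfsgLib.LargeReeAut CfsgLib.TwistAut
open scoped MatrixGroups commutatorElement

universe u v

theorem sub_tail_tables : (∀ k : Fin 12, ∀ r ∈ pairList k, r ∈ tailList k) ∧
    (∀ p ∈ badPairs, ∀ r ∈ quadList p.1 p.2, r ∈ tailList p.1) ∧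
    (∀ r ∈ quadList 1 3, r ∈ rootsF4 1) ∧ ∀ r ∈ rootsF4 1, r ∈ quadList 1 3 := by
  decide +kernel

theorem badPairs_lt : ∀ p ∈ badPairs, p.1 < p.2 ∧ p.2 < 12 ∧ p.2 ∈ [0, 3, 7, 10, 11] := by
  decide +kernel

variable (K : Type v) [Field K] (m : ℕ)

/-- The group of one orbit in the twisted group. -/
noncomputable def pairG (k : ℕ) : Subgroup ↥(twistedF4 K (2 ^ m)) :=
  ((coreF4 K).Ucl {r | r ∈ pairList k}).subgroupOf (twistedF4 K (2 ^ m))

/-- The group of two orbits in the twisted group. -/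
noncomputable def quadG (p : ℕ × ℕ) : Subgroup ↥(twistedF4 K (2 ^ m)) :=
  ((coreF4 K).Ucl {r | r ∈ quadList p.1 p.2}).subgroupOf (twistedF4 K (2 ^ m))

variable {K m}

theorem pairG_le_tailG {k : ℕ} (hk : k < 12) [Fintype K] [CharP K 2] :
    pairG K m k ≤ tailG K m k :=
  Subgroup.comap_mono ((coreF4 K).Ucl_mono fun r hr => sub_tail_tables.1 ⟨k, hk⟩ r hr)

theorem quadG_le_tailG {p : ℕ × ℕ} (hp : p ∈ badPairs) [Fintype K] [CharP K 2] :
    quadG K m p ≤ tailG K m p.1 :=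
  Subgroup.comap_mono ((coreF4 K).Ucl_mono fun r hr => sub_tail_tables.2.1 p hp r hr)

theorem pairG_le_quadG {p : ℕ × ℕ} : pairG K m p.2 ≤ quadG K m p :=
  Subgroup.comap_mono ((coreF4 K).Ucl_mono fun r hr => by
    simp only [quadList, pairList, Set.mem_ofPred_eq, List.mem_cons, List.not_mem_nil, or_false] at hr ⊢
    tauto)

variable [Fintype K] [CharP K 2] (hn : Fintype.card K = 2 * (2 ^ m * 2 ^ m))

omit hn in
theorem coord_eq_zero {k : ℕ} (hk : k < 12) {g h : ↥(twistedF4 K (2 ^ m))} (hg : g ∈ tailG K m k)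
    (hh : h ∈ tailG K m k)
    (e : orbCoord k (g : GL chevF4.Idx K) = orbCoord k (h : GL chevF4.Idx K)) :
    orbCoord k ((g⁻¹ * h : ↥(twistedF4 K (2 ^ m))) : GL chevF4.Idx K) = 0 := by
  have hd : g⁻¹ * h ∈ tailG K m k := mul_mem (inv_mem hg) hh
  have h1 : orbCoord k ((g * (g⁻¹ * h) : ↥(twistedF4 K (2 ^ m))) : GL chevF4.Idx K) =
      orbCoord k (g : GL chevF4.Idx K) +
        orbCoord k ((g⁻¹ * h : ↥(twistedF4 K (2 ^ m))) : GL chevF4.Idx K) := orbCoord_mul hk hg hd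
  rw [mul_inv_cancel_left, e] at h1
  exact left_eq_add.1 h1

include hn

omit hn in
theorem pairG_eq_one {k : ℕ} (hk : k ∈ [0, 3, 7, 10, 11]) {g : ↥(twistedF4 K (2 ^ m))}
    (hn : Fintype.card K = 2 * (2 ^ m * 2 ^ m))
    (hg : g ∈ pairG K m k) (h0 : orbCoord k (g : GL chevF4.Idx K) = 0) : g = 1 := by
  have hk12 : k < 12 := by
    simp only [List.mem_cons, List.not_mem_nil, or_false] at hk; omega
  obtain ⟨s, t, e⟩ := exists_pair (pairing_tables.1 k hk) (Subgroup.mem_subgroupOf.1 hg)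
  rw [e, orbCoord_orbElt hk12] at h0
  subst h0
  have h1 := mem_of_orbCoord_eq_zero hn hk12 (g := (g : GL chevF4.Idx K)) (pairG_le_tailG hk12 hg) g.2
    (by rw [e, orbCoord_orbElt hk12])
  obtain ⟨rfl, -⟩ := orbElt_unique hk12 (g := (g : GL chevF4.Idx K)) (s := s) (t := 0) (s' := 0)
    (t' := 0) (by rw [e, inv_mul_cancel]; exact one_mem _)
    (by simpa [orbElt, (coreF4 K).xGL_zero] using h1)
  exact Subtype.ext (by rw [e]; simp [orbElt, (coreF4 K).xGL_zero])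

theorem pairG_ext {k : ℕ} (hk : k ∈ [0, 3, 7, 10, 11]) {g h : ↥(twistedF4 K (2 ^ m))}
    (hg : g ∈ pairG K m k) (hh : h ∈ pairG K m k)
    (e : orbCoord k (g : GL chevF4.Idx K) = orbCoord k (h : GL chevF4.Idx K)) : g = h := by
  have hk12 : k < 12 := by
    simp only [List.mem_cons, List.not_mem_nil, or_false] at hk; omega
  exact inv_mul_eq_one.1 (pairG_eq_one hk hn (mul_mem (inv_mem hg) hh)
    (coord_eq_zero hk12 (pairG_le_tailG hk12 hg) (pairG_le_tailG hk12 hh) e))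

/-- The element of an orbit with given parameter. -/
theorem orbElt_fixed {k : ℕ} (hk : k ∈ [0, 3, 7, 10, 11]) (t : K) :
    orbElt k (t ^ (2 ^ m * subF4.ex (rootB k))) t ∈ twistedF4 K (2 ^ m) := by
  have hk12 : k < 12 := by
    simp only [List.mem_cons, List.not_mem_nil, or_false] at hk; omega
  obtain ⟨ha, hb, hap, hbp, -, hra, hrb, he⟩ := seqF4_facts ⟨k, hk12⟩
  refine (gensF4 K hn).fixU_pos.1 (Subgroup.mem_inf.2 ⟨?_, ?_⟩)
  · exact mul_mem ((coreF4 K).xGL_mem_Ucl hap _) ((coreF4 K).xGL_mem_Ucl hbp _)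
  have hG : orbElt k (t ^ (2 ^ m * subF4.ex (rootB k))) t ∈ chevF4.group K :=
    mul_mem ((coreF4 K).xGL_mem_group _ _) ((coreF4 K).xGL_mem_group _ _)
  refine (frobF4 K m).mem_fixedSub.2 ⟨hG, ?_⟩
  rw [orbElt, (frobF4 K m).act_mul ((coreF4 K).xGL_mem_group _ _) ((coreF4 K).xGL_mem_group _ _),
    frobF4_act K m ha, frobF4_act K m hb, hra, hrb, ← pow_mul,
    show 2 ^ m * subF4.ex (rootB k) * (2 ^ m * subF4.ex (rootA k)) =
      2 ^ m * 2 ^ m * (subF4.ex (rootA k) * subF4.ex (rootB k)) by ring, he,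
    mul_comm (2 ^ m * 2 ^ m) 2, pow_two_sq hn]
  exact (xGL_commute_of_check (pairing_tables.1 k hk) (by simp [pairList]) (by simp [pairList]) _ _).eq

theorem exists_pairG {k : ℕ} (hk : k ∈ [0, 3, 7, 10, 11]) (a : K) :
    ∃ g ∈ pairG K m k, orbCoord k (g : GL chevF4.Idx K) = a := by
  have hk12 : k < 12 := by
    simp only [List.mem_cons, List.not_mem_nil, or_false] at hk; omega
  exact ⟨⟨_, orbElt_fixed hn hk a⟩, Subgroup.mem_subgroupOf.2 (orbElt_mem_pair k _ _),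
    orbCoord_orbElt hk12 _ _⟩

theorem quadG_coord_zero {p : ℕ × ℕ} (hp : p ∈ badPairs) {g : ↥(twistedF4 K (2 ^ m))}
    (hg : g ∈ quadG K m p) (h0 : orbCoord p.1 (g : GL chevF4.Idx K) = 0) : g ∈ pairG K m p.2 := by
  obtain ⟨hlt, h12, hk⟩ := badPairs_lt p hp
  obtain ⟨he, ho⟩ := pairing_tables.2.1 p hp
  obtain ⟨s, t, z, hz, e⟩ := exists_quad he ho (Subgroup.mem_subgroupOf.1 hg)
  have h1 : p.1 < 12 := by omega
  have hz' : z ∈ tailU K (p.1 + 1) :=
    tailU_mono hlt ((coreF4 K).Ucl_mono (fun r hr => sub_tail_tables.1 ⟨p.2, h12⟩ r hr) hz)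
  have hd : (orbElt p.1 s t)⁻¹ * (g : GL chevF4.Idx K) ∈ tailU K (p.1 + 1) := by
    rw [e, inv_mul_cancel_left]; exact hz'
  rw [orbCoord_eq h1 hd] at h0
  have h2 := mem_of_orbCoord_eq_zero hn h1 (g := (g : GL chevF4.Idx K)) (quadG_le_tailG hp hg) g.2 (by rw [orbCoord_eq h1 hd, h0])
  obtain ⟨rfl, rfl⟩ := orbElt_unique h1 (s' := 0) (t' := 0) hd
    (by simpa [orbElt, (coreF4 K).xGL_zero] using h2)
  rw [pairG, Subgroup.mem_subgroupOf, e]
  simpa [orbElt, (coreF4 K).xGL_zero] using hz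

/-- A representative of a generator of the twisted Weyl group. -/
noncomputable def sRep (i : Fin 2) : ↥(twistedF4 K (2 ^ m)) :=
  ⟨(gensF4 K hn).s i, (gensF4 K hn).s_mem i⟩

theorem sRep_conj {L L' : List ℕ} (i : Fin 2)
    (h : ∀ r : Fin chevF4.nroots, (r : ℕ) ∈ L →
      (reflDataF4.wordPerm (f4TwistWord i) r : ℕ) ∈ L')
    {x : ↥(twistedF4 K (2 ^ m))}
    (hx : x ∈ ((coreF4 K).Ucl {r | r ∈ L}).subgroupOf (twistedF4 K (2 ^ m))) :
    sRep hn i * x * (sRep hn i)⁻¹ ∈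
      ((coreF4 K).Ucl {r | r ∈ L'}).subgroupOf (twistedF4 K (2 ^ m)) := by
  have g := gensF4 K hn
  have hw : (gensF4 K hn).wJ i = reflDataF4.wordPerm (f4TwistWord i) :=
    (gensF4 K hn).wJ_eq i ((reflDataF4.weylSub _).list_prod_mem fun y hy => by
      obtain ⟨j, hj, rfl⟩ := List.mem_map.1 hy
      exact reflDataF4.sPerm_mem_sub (f4_word_mem i j hj)) (f4_word_neg i)
  rw [Subgroup.mem_subgroupOf] at hx ⊢
  show (gensF4 K hn).s i * (x : GL chevF4.Idx K) * ((gensF4 K hn).s i)⁻¹ ∈ _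
  refine (coreF4 K).conj_Ucl_le ((gensF4 K hn).s_moves i) (T := (coreF4 K).Ucl {r | r ∈ L'})
    (fun r hr t => (coreF4 K).xGL_mem_Ucl ?_ t) _ hx
  rw [hw]
  exact h r hr

theorem card_quadG_le {p : ℕ × ℕ} (hp : p ∈ badPairs) : Nat.card ↥(quadG K m p) ≤
    Nat.card {a : K | ∃ g ∈ quadG K m p, orbCoord p.1 (g : GL chevF4.Idx K) = a} *
      Fintype.card K := by
  classical
  obtain ⟨hlt, h12, hk⟩ := badPairs_lt p hp
  have h1 : p.1 < 12 := by omega
  set A := {a : K | ∃ g ∈ quadG K m p, orbCoord p.1 (g : GL chevF4.Idx K) = a}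
  choose r hr hrc using fun a : A => a.2
  let f : ↥(quadG K m p) → A × K := fun g =>
    (⟨_, g.1, g.2, rfl⟩, orbCoord p.2
      (((r ⟨_, g.1, g.2, rfl⟩)⁻¹ * g.1 : ↥(twistedF4 K (2 ^ m))) : GL chevF4.Idx K))
  have hz : ∀ (a : A) (g : ↥(twistedF4 K (2 ^ m))), g ∈ quadG K m p →
      orbCoord p.1 (g : GL chevF4.Idx K) = a → (r a)⁻¹ * g ∈ pairG K m p.2 := fun a g hg e =>
    quadG_coord_zero hn hp (mul_mem (inv_mem (hr a)) hg)
      (coord_eq_zero h1 (quadG_le_tailG hp (hr a)) (quadG_le_tailG hp hg) (by rw [hrc, e]))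
  rw [← Nat.card_eq_fintype_card (α := K), ← Nat.card_prod]
  refine Nat.card_le_card_of_injective f fun g g' e => ?_
  simp only [f, Prod.mk.injEq] at e
  obtain ⟨e1, e2⟩ := e
  refine Subtype.ext ?_
  have h3 := hz ⟨_, g.1, g.2, rfl⟩ g.1 g.2 rfl
  have h4 := hz ⟨_, g'.1, g'.2, rfl⟩ g'.1 g'.2 rfl
  rw [← e1] at h4 e2
  exact mul_left_cancel (pairG_ext hn hk h3 h4 e2)

theorem card_quadG_base : Nat.card ↥(quadG K m (1, 3)) = Fintype.card K * Fintype.card K := by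
  obtain ⟨h1, h2⟩ := classF4 K hn
  have hs : ({r | r ∈ quadList 1 3} : Set ℕ) = listSet (rootsF4 1) :=
    Set.ext fun r => ⟨sub_tail_tables.2.2.1 r, sub_tail_tables.2.2.2 r⟩
  rw [← h2, quadG, hs, ← Subgroup.inf_subgroupOf_right,
    Nat.card_congr (Subgroup.subgroupOfEquivOfLe (inf_le_right : (coreF4 K).Ucl (listSet (rootsF4 1)) ⊓
      twistedF4 K (2 ^ m) ≤ twistedF4 K (2 ^ m))).toEquiv]
  congr 1
  exact le_antisymm (inf_le_inf_left _ (le_fixedF4 K hn)) (le_inf inf_le_left h1) ▸ rfl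

theorem exists_quadG {p : ℕ × ℕ} (hp : p ∈ badPairs) (a : K) :
    ∃ g ∈ quadG K m p, orbCoord p.1 (g : GL chevF4.Idx K) = a := by
  have hstep : ∀ t ∈ [(((1, 3), (2, 7)), (0 : Fin 2)), (((2, 7), (4, 10)), 1),
      (((4, 10), (5, 11)), 0)], Nat.card ↥(quadG K m t.1.1) ≤ Nat.card ↥(quadG K m t.1.2) := by
    intro t ht
    exact Nat.card_le_card_of_injective
      (fun x : ↥(quadG K m t.1.1) => (⟨_, sRep_conj hn t.2 (fun r hr => (transport_tables t ht r).1 hr)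
        x.2⟩ : ↥(quadG K m t.1.2)))
      fun x y e => Subtype.ext (mul_left_cancel (mul_right_cancel (congrArg Subtype.val e)))
  have h1 := card_quadG_base hn
  have h2 := hstep (((1, 3), (2, 7)), 0) (by simp)
  have h3 := hstep (((2, 7), (4, 10)), 1) (by simp)
  have h4 := hstep (((4, 10), (5, 11)), 0) (by simp)
  have hq : Fintype.card K * Fintype.card K ≤ Nat.card ↥(quadG K m p) := by
    simp only [badPairs, List.mem_cons, List.not_mem_nil, or_false] at hp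
    rcases hp with rfl | rfl | rfl | rfl <;> simp only at h2 h3 h4 <;> omega
  have h5 := hq.trans (card_quadG_le hn hp)
  set A := {a : K | ∃ g ∈ quadG K m p, orbCoord p.1 (g : GL chevF4.Idx K) = a}
  have h6 : Nat.card K ≤ A.ncard := by
    rw [Nat.card_eq_fintype_card, ← Nat.card_coe_set_eq]
    exact Nat.le_of_mul_le_mul_right h5 Fintype.card_pos
  have h7 : A = Set.univ := Set.eq_of_subset_of_ncard_le (Set.subset_univ A)
    (by rw [Set.ncard_univ]; exact h6)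
  have h8 : a ∈ A := by rw [h7]; exact Set.mem_univ a
  exact h8

variable (hm : 1 ≤ m) {Γ : Type u} [Group Γ] {σ : Γ →* ↥(twistedF4 K (2 ^ m))}
  (hsur : Function.Surjective σ) (hc : σ.ker ≤ Subgroup.center Γ)

include hm hsur hc

/-- Lifts of two commuting groups with separated characters commute. -/
theorem lifts_commute {j i : ℕ} (hji : j < i) (hi : i < 12) (hgood : (j, i) ∉ badPairs)
    {A B : Subgroup ↥(twistedF4 K (2 ^ m))} (hAB : ∀ a ∈ A, ∀ b ∈ B, Commute a b)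
    (hA : A ≤ tailG K m j) (hB : B ≤ tailG K m i)
    (sA : ∀ k : K, ∃ a ∈ A, orbCoord j (a : GL chevF4.Idx K) = k)
    (sB : ∀ k : K, ∃ b ∈ B, orbCoord i (b : GL chevF4.Idx K) = k)
    (tA : ∀ c : Fin chevF4.rank → Kˣ, ∀ t : ↥(twistedF4 K (2 ^ m)),
      (coreF4 K).R.torus c = t → ∀ a ∈ A, t * a * t⁻¹ ∈ A)
    (tB : ∀ c : Fin chevF4.rank → Kˣ, ∀ t : ↥(twistedF4 K (2 ^ m)),
      (coreF4 K).R.torus c = t → ∀ b ∈ B, t * b * t⁻¹ ∈ B)
    (hA0 : ∀ x q, σ x ∈ A → orbCoord j (σ x : GL chevF4.Idx K) = 0 → σ q ∈ B → ⁅x, q⁆ = 1)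
    (hB0 : ∀ x q, σ x ∈ A → σ q ∈ B → orbCoord i (σ q : GL chevF4.Idx K) = 0 → ⁅x, q⁆ = 1) :
    ∀ x q, σ x ∈ A → σ q ∈ B → ⁅x, q⁆ = 1 := by
  obtain ⟨r, hr⟩ := hsur.hasRightInverse
  have hj12 : j < 12 := hji.trans hi
  have hz : ∀ x q, σ x ∈ A → σ q ∈ B → ⁅x, q⁆ ∈ σ.ker := fun x q hx hq => by
    rw [MonoidHom.mem_ker, map_commutatorElement, commutatorElement_eq_one_iff_commute]
    exact hAB _ hx _ hq
  letI : CommGroup ↥σ.ker :=
    { (inferInstance : Group ↥σ.ker) with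
      mul_comm := fun a b => Subtype.ext (CfsgLib.Schur.ker_commute hc a.2 b).eq }
  have hl : ∀ x y q, σ x ∈ A → σ y ∈ A → σ q ∈ B → ⁅x * y, q⁆ = ⁅x, q⁆ * ⁅y, q⁆ :=
    fun x y q hx hy hq => by
      rw [CfsgLib.SuzukiGroup.comm_mul_left (CfsgLib.Schur.ker_commute hc (hz y q hy hq) x).symm]
      exact (CfsgLib.Schur.ker_commute hc (hz y q hy hq) _).eq
  have hr' : ∀ x q q', σ x ∈ A → σ q ∈ B → σ q' ∈ B → ⁅x, q * q'⁆ = ⁅x, q⁆ * ⁅x, q'⁆ :=
    fun x q q' hx hq hq' => by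
      rw [CfsgLib.SuzukiGroup.comm_mul_right (CfsgLib.Schur.ker_commute hc (hz x q' hx hq') q).symm]
  choose xa hxa hxac using sA
  choose qb hqb hqbc using sB
  have hxa' : ∀ a, σ (r (xa a)) ∈ A := fun a => by rw [hr]; exact hxa a
  have hqb' : ∀ b, σ (r (qb b)) ∈ B := fun b => by rw [hr]; exact hqb b
  let B' : K → K → ↥σ.ker := fun a b => ⟨⁅r (xa a), r (qb b)⁆, hz _ _ (hxa' a) (hqb' b)⟩
  have fB : ∀ x q, σ x ∈ A → σ q ∈ B → ⁅x, q⁆ =
      (B' (orbCoord j (σ x : GL chevF4.Idx K)) (orbCoord i (σ q : GL chevF4.Idx K)) : Γ) := by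
    intro x q hx hq
    set x0 := r (xa (orbCoord j (σ x : GL chevF4.Idx K))) with hx0
    set q0 := r (qb (orbCoord i (σ q : GL chevF4.Idx K))) with hq0
    have hd : σ (x0⁻¹ * x) ∈ A := by
      rw [map_mul, map_inv]; exact mul_mem (inv_mem (hxa' _)) hx
    have he : σ (q0⁻¹ * q) ∈ B := by
      rw [map_mul, map_inv]; exact mul_mem (inv_mem (hqb' _)) hq
    have hd0 : orbCoord j (σ (x0⁻¹ * x) : GL chevF4.Idx K) = 0 := by
      rw [map_mul, map_inv]
      refine coord_eq_zero hj12 (hA (hxa' _)) (hA hx) ?_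
      rw [hr, hxac]
    have he0 : orbCoord i (σ (q0⁻¹ * q) : GL chevF4.Idx K) = 0 := by
      rw [map_mul, map_inv]
      refine coord_eq_zero hi (hB (hqb' _)) (hB hq) ?_
      rw [hr, hqbc]
    conv_lhs => rw [show x = x0 * (x0⁻¹ * x) by group, show q = q0 * (q0⁻¹ * q) by group]
    rw [hl _ _ _ (hxa' _) hd (by rw [mul_inv_cancel_left]; exact hq),
      hA0 _ _ hd hd0 (by rw [mul_inv_cancel_left]; exact hq), mul_one,
      hr' _ _ _ (hxa' _) (hqb' _) he, hB0 _ _ (hxa' _) he he0, mul_one]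
  have key : ∀ a b, B' a b = 1 := by
    refine biadd_eq_one_of_good hn hm hji hi hgood (fun a b b' => Subtype.ext ?_) fun c hct a b =>
      Subtype.ext ?_
    · have h := fB (r (xa a)) (r (qb b) * r (qb b')) (hxa' a)
        (by rw [map_mul]; exact mul_mem (hqb' b) (hqb' b'))
      rw [hr' _ _ _ (hxa' a) (hqb' b) (hqb' b'), map_mul, hr, hr, hr, Subgroup.coe_mul,
        orbCoord_mul hi (a := (qb b : GL chevF4.Idx K)) (b := (qb b' : GL chevF4.Idx K))
          (hB (hqb b)) (hB (hqb b')), hxac, hqbc, hqbc] at h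
      exact h.symm
    · set t : ↥(twistedF4 K (2 ^ m)) := ⟨_, hct⟩ with ht
      have e1 : σ (r t * r (xa a) * (r t)⁻¹) = t * xa a * t⁻¹ := by
        rw [map_mul, map_mul, map_inv, hr, hr]
      have e2 : σ (r t * r (qb b) * (r t)⁻¹) = t * qb b * t⁻¹ := by
        rw [map_mul, map_mul, map_inv, hr, hr]
      have h := fB (r t * r (xa a) * (r t)⁻¹) (r t * r (qb b) * (r t)⁻¹)
        (by rw [e1]; exact tA c t rfl _ (hxa a)) (by rw [e2]; exact tB c t rfl _ (hqb b))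
      rw [e1, e2] at h
      simp only [Subgroup.coe_mul, InvMemClass.coe_inv, ht] at h
      rw [orbCoord_torus hj12 c (g := (xa a : GL chevF4.Idx K)) (hA (hxa a)),
        orbCoord_torus hi c (g := (qb b : GL chevF4.Idx K)) (hB (hqb b)), hxac, hqbc] at h
      rw [← h, ← ht, show ⁅r t * r (xa a) * (r t)⁻¹, r t * r (qb b) * (r t)⁻¹⁆ =
        r t * ⁅r (xa a), r (qb b)⁆ * (r t)⁻¹ by simp only [commutatorElement_def]; group,
        ← (CfsgLib.Schur.ker_commute hc (hz _ _ (hxa' a) (hqb' b)) (r t)).eq, mul_inv_cancel_right]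
  intro x q hx hq
  rw [fB x q hx hq, key]
  rfl

omit hn hm hsur hc in
theorem torus_conj_sub {L : List ℕ} (c : Fin chevF4.rank → Kˣ) (t : ↥(twistedF4 K (2 ^ m)))
    (h : (coreF4 K).R.torus c = t) (a : ↥(twistedF4 K (2 ^ m)))
    (ha : a ∈ ((coreF4 K).Ucl {r | r ∈ L}).subgroupOf (twistedF4 K (2 ^ m))) :
    t * a * t⁻¹ ∈ ((coreF4 K).Ucl {r | r ∈ L}).subgroupOf (twistedF4 K (2 ^ m)) := by
  rw [Subgroup.mem_subgroupOf] at ha ⊢
  show (t : GL chevF4.Idx K) * (a : GL chevF4.Idx K) * (t : GL chevF4.Idx K)⁻¹ ∈ _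
  rw [← h]
  exact (Subgroup.mem_normalizer_iff.1 ((coreF4 K).torus_normalizes _ ⟨c, rfl⟩) _).1 ha

theorem pairs_commute {k l : ℕ} (hkl : (k, l) ∈ [(7, 10), (7, 11), (10, 11)]) :
    ∀ x q, σ x ∈ pairG K m k → σ q ∈ pairG K m l → ⁅x, q⁆ = 1 := by
  have hd : k < l ∧ l < 12 ∧ (k, l) ∉ badPairs ∧ k ∈ [0, 3, 7, 10, 11] ∧ l ∈ [0, 3, 7, 10, 11] ∧
      evenCheck (pairList k) (pairList l) = true := by
    have := pairing_tables
    simp only [List.mem_cons, List.not_mem_nil, or_false, Prod.mk.injEq] at hkl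
    rcases hkl with ⟨rfl, rfl⟩ | ⟨rfl, rfl⟩ | ⟨rfl, rfl⟩ <;>
      simp [badPairs, this.2.2.1, this.2.2.2.1, this.2.2.2.2.1]
  obtain ⟨h1, h2, h3, hk, hl, he⟩ := hd
  refine lifts_commute hn hm hsur hc h1 h2 h3
    (fun a ha b hb => Subtype.ext (Ucl_commute he ha hb).eq)
    (pairG_le_tailG (h1.trans h2)) (pairG_le_tailG h2) (exists_pairG hn hk) (exists_pairG hn hl)
    (fun c t h a ha => torus_conj_sub c t h a ha) (fun c t h a ha => torus_conj_sub c t h a ha)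
    (fun x q hx h0 _ => ?_) (fun x q _ hq h0 => ?_)
  · exact commutatorElement_eq_one_iff_commute.2
      (CfsgLib.Schur.ker_commute hc (pairG_eq_one hk hn hx h0) q)
  · exact commutatorElement_eq_one_iff_commute.2
      (CfsgLib.Schur.ker_commute hc (pairG_eq_one hl hn hq h0) x).symm

theorem quad_pair_commute :
    ∀ x q, σ x ∈ quadG K m (5, 11) → σ q ∈ pairG K m 10 → ⁅x, q⁆ = 1 := by
  have hp : (5, 11) ∈ badPairs := by simp [badPairs]
  refine lifts_commute hn hm hsur hc (j := 5) (i := 10) (by norm_num) (by norm_num)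
    (by simp [badPairs]) (fun a ha b hb => Subtype.ext
      (Ucl_commute pairing_tables.2.2.2.2.2.1 ha hb).eq)
    (quadG_le_tailG hp) (pairG_le_tailG (by norm_num)) (exists_quadG hn hp)
    (exists_pairG hn (by simp)) (fun c t h a ha => torus_conj_sub c t h a ha)
    (fun c t h a ha => torus_conj_sub c t h a ha) (fun x q hx h0 hq => ?_) (fun x q _ hq h0 => ?_)
  · exact commutatorElement_eq_one_iff_commute.2 (commutatorElement_eq_one_iff_commute.1
      (pairs_commute hn hm hsur hc (k := 10) (l := 11) (by simp) q x hq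
        (quadG_coord_zero hn hp hx h0))).symm
  · exact commutatorElement_eq_one_iff_commute.2
      (CfsgLib.Schur.ker_commute hc (pairG_eq_one (by simp) hn hq h0) x).symm

omit [Fintype K] hn hm hsur hc in
/-- The centre of the last group as commutators. -/
theorem comm_pair_eq (s t : K) :
    orbElt 10 s t * orbElt 0 1 1 = orbElt 0 1 1 * orbElt 10 s t * orbElt 11 s t := by
  obtain ⟨h1, -, -, -, -, -, -, -, -, -, hT1, hT2, hE1, hE2⟩ := pairing_tables
  have c1 : (coreF4 K).xGL 40 t * (coreF4 K).xGL 33 1 =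
      (coreF4 K).xGL 33 1 * (coreF4 K).xGL 40 t * (coreF4 K).xGL 44 t := by
    rw [(coreF4 K).xGL_comm (r := 33) (s := 40) (by decide) (by decide) (by decide) (by decide)]
    simp [ChevalleyDatum.commWord, hT1, ChevCore.wordGL_cons, ChevCore.wordGL_nil, CharTwo.neg_eq]
  have c2 : (coreF4 K).xGL 46 s * (coreF4 K).xGL 24 1 =
      (coreF4 K).xGL 24 1 * (coreF4 K).xGL 46 s * (coreF4 K).xGL 47 s := by
    rw [(coreF4 K).xGL_comm (r := 24) (s := 46) (by decide) (by decide) (by decide) (by decide)]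
    simp [ChevalleyDatum.commWord, hT2, ChevCore.wordGL_cons, ChevCore.wordGL_nil, CharTwo.neg_eq]
  have k1 : Commute ((coreF4 K).xGL 24 1) ((coreF4 K).xGL 40 t) :=
    xGL_commute_of_check hE1 (by simp) (by simp) _ _
  have k2 : Commute ((coreF4 K).xGL 33 1) ((coreF4 K).xGL 46 s) :=
    xGL_commute_of_check hE2 (by simp) (by simp) _ _
  have k3 : Commute ((coreF4 K).xGL 44 t) ((coreF4 K).xGL 24 1) := by
    refine xGL_commute_of_check (L := pairList 11) (L' := pairList 0) ?_ (by decide) (by decide) _ _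
    decide +kernel
  have k4 : Commute ((coreF4 K).xGL 47 s) ((coreF4 K).xGL 40 t) := by
    refine xGL_commute_of_check (L := pairList 11) (L' := pairList 10) ?_ (by decide) (by decide) _ _
    decide +kernel
  show (coreF4 K).xGL 46 s * (coreF4 K).xGL 40 t * ((coreF4 K).xGL 33 1 * (coreF4 K).xGL 24 1) =
    (coreF4 K).xGL 33 1 * (coreF4 K).xGL 24 1 * ((coreF4 K).xGL 46 s * (coreF4 K).xGL 40 t) *
      ((coreF4 K).xGL 47 s * (coreF4 K).xGL 44 t)
  calc _ = (coreF4 K).xGL 46 s * ((coreF4 K).xGL 40 t * (coreF4 K).xGL 33 1) *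
        (coreF4 K).xGL 24 1 := by group
    _ = (coreF4 K).xGL 46 s * (coreF4 K).xGL 33 1 * (coreF4 K).xGL 40 t *
        ((coreF4 K).xGL 44 t * (coreF4 K).xGL 24 1) := by rw [c1]; group
    _ = ((coreF4 K).xGL 46 s * (coreF4 K).xGL 33 1) *
        ((coreF4 K).xGL 40 t * (coreF4 K).xGL 24 1) * (coreF4 K).xGL 44 t := by rw [k3.eq]; group
    _ = (coreF4 K).xGL 33 1 * ((coreF4 K).xGL 46 s * (coreF4 K).xGL 24 1) *
        (coreF4 K).xGL 40 t * (coreF4 K).xGL 44 t := by rw [← k2.eq, ← k1.eq]; group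
    _ = (coreF4 K).xGL 33 1 * (coreF4 K).xGL 24 1 * (coreF4 K).xGL 46 s *
        ((coreF4 K).xGL 47 s * (coreF4 K).xGL 40 t) * (coreF4 K).xGL 44 t := by rw [c2]; group
    _ = _ := by rw [k4.eq]; group

theorem top_commute :
    ∀ x q, σ x ∈ quadG K m (5, 11) → σ q ∈ pairG K m 11 → ⁅x, q⁆ = 1 := by
  intro x q hx hq
  have hk : ∀ k ∈ [0, 10, 11], k ∈ [0, 3, 7, 10, 11] := by simp
  set b := orbCoord 11 (σ q : GL chevF4.Idx K) with hb
  set yG : ↥(twistedF4 K (2 ^ m)) := ⟨_, orbElt_fixed hn (hk 10 (by simp)) b⟩ with hy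
  set PG : ↥(twistedF4 K (2 ^ m)) := ⟨_, orbElt_fixed hn (hk 0 (by simp)) 1⟩ with hP
  obtain ⟨P, hPσ⟩ := hsur PG
  obtain ⟨y, hyσ⟩ := hsur yG
  have hyG : σ y ∈ pairG K m 10 := by
    rw [hyσ]; exact Subgroup.mem_subgroupOf.2 (orbElt_mem_pair 10 _ _)
  have hPm : σ P ∈ pairG K m 0 := by
    rw [hPσ]; exact Subgroup.mem_subgroupOf.2 (orbElt_mem_pair 0 _ _)
  have hPy : σ ⁅P, y⁆ = σ q := by
    refine pairG_ext hn (hk 11 (by simp)) ?_ hq ?_
    all_goals
      rw [map_commutatorElement, hPσ, hyσ]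
      have e := comm_pair_eq (K := K) (b ^ (2 ^ m * subF4.ex (rootB 10))) b
      have hc11 : Commute (orbElt (K := K) 0 1 1 * orbElt 10 (b ^ (2 ^ m * subF4.ex (rootB 10))) b)
          (orbElt 11 (b ^ (2 ^ m * subF4.ex (rootB 10))) b) :=
        Commute.mul_left (Ucl_commute pairing_tables.2.2.2.2.2.2.2.2.1 (orbElt_mem_pair 0 _ _)
            (orbElt_mem_pair 11 _ _))
          (Ucl_commute pairing_tables.2.2.2.2.1 (orbElt_mem_pair 10 _ _) (orbElt_mem_pair 11 _ _))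
      have hinv : (orbElt (K := K) 11 (b ^ (2 ^ m * subF4.ex (rootB 10))) b)⁻¹ ∈
          (coreF4 K).Ucl {r | r ∈ pairList 11} := inv_mem (orbElt_mem_pair 11 _ _)
      have hcomm : ⁅(PG : GL chevF4.Idx K), (yG : GL chevF4.Idx K)⁆ =
          (orbElt 11 (b ^ (2 ^ m * subF4.ex (rootB 10))) b)⁻¹ := by
        rw [hP, hy]
        simp only [one_pow]
        rw [show ⁅orbElt (K := K) 0 1 1, orbElt 10 (b ^ (2 ^ m * subF4.ex (rootB 10))) b⁆ =
          orbElt 0 1 1 * orbElt 10 (b ^ (2 ^ m * subF4.ex (rootB 10))) b *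
            (orbElt 10 (b ^ (2 ^ m * subF4.ex (rootB 10))) b * orbElt 0 1 1)⁻¹ by
              rw [commutatorElement_def]; group, e, hc11.eq]
        group
    · rw [pairG, Subgroup.mem_subgroupOf]
      show ⁅(PG : GL chevF4.Idx K), (yG : GL chevF4.Idx K)⁆ ∈ _
      rw [hcomm]; exact hinv
    · show orbCoord 11 ⁅(PG : GL chevF4.Idx K), (yG : GL chevF4.Idx K)⁆ = b
      rw [hcomm, orbElt, mul_inv_rev, (coreF4 K).xGL_inv, (coreF4 K).xGL_inv,
        (xGL_commute_of_check (pairing_tables.1 11 (hk 11 (by simp))) (r := rootB 11) (s := rootA 11)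
          (by simp [pairList]) (by simp [pairList]) _ _).eq, CharTwo.neg_eq, CharTwo.neg_eq]
      exact orbCoord_orbElt (by norm_num) _ _
  rw [CfsgLib.Schur.commutator_congr hc (rfl : σ x = σ x) hPy.symm]
  set c := ⁅x, P⁆ with hcdef
  have hcm : σ c ∈ pairG K m 7 := by
    rw [hcdef, map_commutatorElement, pairG, Subgroup.mem_subgroupOf]
    show ⁅(σ x : GL chevF4.Idx K), (σ P : GL chevF4.Idx K)⁆ ∈ _
    exact comm_of_oddCheck pairing_tables.2.2.2.2.2.2.2.2.2.1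
      pairing_tables.2.2.2.2.2.2.1 pairing_tables.2.2.2.2.2.2.2.1
      (Subgroup.mem_subgroupOf.1 hx) (Subgroup.mem_subgroupOf.1 hPm)
  have hxy : x * y * x⁻¹ = y := by
    rw [(commutatorElement_eq_one_iff_commute.1 (quad_pair_commute hn hm hsur hc x y hx hyG)).eq,
      mul_inv_cancel_right]
  have h1 : c * ⁅P, y⁆ * c⁻¹ = ⁅P, y⁆ := by
    have := pairs_commute hn hm hsur hc (k := 7) (l := 11) (by simp) c ⁅P, y⁆ hcm
      (by rw [hPy]; exact hq)
    rw [(commutatorElement_eq_one_iff_commute.1 this).eq, mul_inv_cancel_right]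
  have h2 : ⁅c, y⁆ = 1 := pairs_commute hn hm hsur hc (k := 7) (l := 10) (by simp) c y hcm hyG
  rw [commutatorElement_eq_one_iff_commute]
  refine mul_inv_eq_iff_eq_mul.1 ?_
  calc x * ⁅P, y⁆ * x⁻¹ = ⁅x * P * x⁻¹, x * y * x⁻¹⁆ := by
        simp only [commutatorElement_def]; group
    _ = ⁅c * P, y⁆ := by rw [hxy, hcdef, commutatorElement_def]; group
    _ = c * ⁅P, y⁆ * c⁻¹ * ⁅c, y⁆ := by simp only [commutatorElement_def]; group
    _ = ⁅P, y⁆ := by rw [h1, h2, mul_one]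

theorem bad_commute : ∀ p ∈ badPairs,
    ∀ x q, σ x ∈ quadG K m p → σ q ∈ pairG K m p.2 → ⁅x, q⁆ = 1 := by
  have hback : ∀ t ∈ [(((1, 3), (2, 7)), (0 : Fin 2)), (((2, 7), (4, 10)), 1),
      (((4, 10), (5, 11)), 0)],
      (∀ x q, σ x ∈ quadG K m t.1.2 → σ q ∈ pairG K m t.1.2.2 → ⁅x, q⁆ = 1) →
      ∀ x q, σ x ∈ quadG K m t.1.1 → σ q ∈ pairG K m t.1.1.2 → ⁅x, q⁆ = 1 := by
    intro t ht h x q hx hq
    obtain ⟨n, hn'⟩ := hsur (sRep hn t.2)
    have h1 := h (n * x * n⁻¹) (n * q * n⁻¹)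
      (by rw [map_mul, map_mul, map_inv, hn']
          exact sRep_conj hn t.2 (fun r hr => (transport_tables t ht r).1 hr) hx)
      (by rw [map_mul, map_mul, map_inv, hn']
          exact sRep_conj hn t.2 (fun r hr => (transport_tables t ht r).2 hr) hq)
    rw [show ⁅n * x * n⁻¹, n * q * n⁻¹⁆ = n * ⁅x, q⁆ * n⁻¹ by
      simp only [commutatorElement_def]; group] at h1
    exact conj_eq_one_iff.1 h1
  have h5 := top_commute hn hm hsur hc
  have h4 := hback (((4, 10), (5, 11)), 0) (by simp) h5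
  have h2 := hback (((2, 7), (4, 10)), 1) (by simp) h4
  have h1 := hback (((1, 3), (2, 7)), 0) (by simp) h2
  intro p hp
  simp only [badPairs, List.mem_cons, List.not_mem_nil, or_false] at hp
  rcases hp with rfl | rfl | rfl | rfl
  exacts [h1, h2, h4, h5]

theorem pairing_cases {i j : ℕ} (hi : i < 12) (hji : j ≤ i) :
    (layersF4 hn hm).NoPairing.{u} j i ∨ (layersF4 hn hm).GoodPair σ j i := by
  rcases eq_or_lt_of_le hji with rfl | hlt
  · exact Or.inl (noPairing_self hn hm hi)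
  by_cases hbad : (j, i) ∈ badPairs
  · refine Or.inr fun a b => ?_
    obtain ⟨-, -, hk⟩ := badPairs_lt _ hbad
    obtain ⟨xg, hxg, hxa⟩ := exists_quadG hn hbad a
    obtain ⟨qg, hqg, hqb⟩ := exists_pairG hn hk b
    obtain ⟨x, rfl⟩ := hsur xg
    obtain ⟨q, rfl⟩ := hsur qg
    exact ⟨x, q, quadG_le_tailG hbad hxg, pairG_le_tailG hi hqg, hxa, hqb,
      bad_commute hn hm hsur hc _ hbad x q hxg hqg⟩
  · exact Or.inl (noPairing_of_good hn hm hlt hi hbad)

/-- The derived group of the preimage of the unipotent group meets the kernel trivially. -/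
theorem derived_inf_kerF4 {Q : Subgroup Γ} (hQ : Q.map σ ≤ tailG K m 0) {z : Γ} (hz : z ∈ σ.ker)
    (hzQ : z ∈ ⁅Q, Q⁆) : z = 1 :=
  (layersF4 hn hm).derived_inf_ker hsur hc
    (fun _ hi _ hji => pairing_cases hn hm hsur hc hi hji) hQ hz hzQ

end CfsgLib.LargeReeMult
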