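import Cfsg.Agent.Lib.Schur.Criteria

/-!
# Elements of two-power order in a central extension with kernel of odd order

They lift uniquely, the lifts multiply on every two-subgroup, and a subgroup generated by such lifts
over a subgroup with cyclic odd Sylow subgroups meets the kernel trivially.
-/

set_option autoImplicit false

namespace CfsgLib.LargeReeMult

open Subgroup

universe u

/-- Having two-power order. -/
def IsTwo {G : Type*} [Monoid G] (g : G) : Prop := ∃ n : ℕ, g ^ 2 ^ n = 1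

theorem IsTwo.inv {G : Type*} [Group G] {g : G} (h : IsTwo g) : IsTwo g⁻¹ := by
  obtain ⟨n, hn⟩ := h; exact ⟨n, by rw [inv_pow, hn, inv_one]⟩

theorem IsTwo.map {G H : Type*} [Monoid G] [Monoid H] (f : G →* H) {g : G} (h : IsTwo g) :
    IsTwo (f g) := by
  obtain ⟨n, hn⟩ := h; exact ⟨n, by rw [← map_pow, hn, map_one]⟩

theorem IsTwo.conj {G : Type*} [Group G] {g : G} (x : G) (h : IsTwo g) : IsTwo (x * g * x⁻¹) :=
  h.map (MulAut.conj x).toMonoidHom

variable {Γ : Type u} [Group Γ] [Finite Γ] {G : Type u} [Group G] {σ : Γ →* G}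
  (hsur : Function.Surjective σ) (hc : σ.ker ≤ center Γ) (hodd : ¬ 2 ∣ Nat.card ↥σ.ker)

include hodd in
omit [Finite Γ] in
theorem eq_one_of_isTwo {z : Γ} (hz : σ z = 1) (h : IsTwo z) : z = 1 := by
  obtain ⟨n, hn⟩ := h
  have h1 : (⟨z, hz⟩ : σ.ker) ^ 2 ^ n = 1 := Subtype.ext (by simpa using hn)
  have h2 : orderOf (⟨z, hz⟩ : σ.ker) = 1 := by
    refine Nat.eq_one_of_dvd_coprimes ?_ (orderOf_dvd_natCard _) (orderOf_dvd_of_pow_eq_one h1)
    exact (Nat.Coprime.pow_left n ((Nat.prime_two.coprime_iff_not_dvd).2 hodd)).symm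
  exact congrArg Subtype.val (orderOf_eq_one_iff.1 h2)

include hc hodd in
omit [Finite Γ] in
theorem isTwo_unique {x y : Γ} (hx : IsTwo x) (hy : IsTwo y) (e : σ x = σ y) : x = y := by
  have hz : σ (x⁻¹ * y) = 1 := by rw [map_mul, map_inv, e, inv_mul_cancel]
  refine inv_mul_eq_one.1 (eq_one_of_isTwo hodd hz ?_)
  obtain ⟨a, ha⟩ := hx
  obtain ⟨b, hb⟩ := hy
  refine ⟨a + b, ?_⟩
  have hyx : y = x * (x⁻¹ * y) := by group
  have hcm : Commute (x⁻¹ * y) x := CfsgLib.Schur.ker_commute hc hz x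
  have h1 : y ^ 2 ^ (a + b) = x ^ 2 ^ (a + b) * (x⁻¹ * y) ^ 2 ^ (a + b) := by
    conv_lhs => rw [hyx]
    exact hcm.symm.mul_pow _
  rw [pow_add, pow_mul x, ha, one_pow, one_mul, mul_comm (2 ^ a), pow_mul y, hb, one_pow] at h1
  rw [pow_add, mul_comm (2 ^ a)]
  exact h1.symm

include hsur in
theorem exists_isTwo_lift {g : G} (hg : IsTwo g) : ∃ x : Γ, IsTwo x ∧ σ x = g := by
  obtain ⟨x, rfl⟩ := hsur g
  obtain ⟨n, hn⟩ := hg
  obtain ⟨a, d, hd, e⟩ := Nat.exists_eq_pow_mul_and_not_dvd (orderOf_pos x).ne' 2 (by norm_num)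
  have hcop : Nat.Coprime d (orderOf (σ x)) :=
    Nat.Coprime.coprime_dvd_right (orderOf_dvd_of_pow_eq_one hn)
      (Nat.Coprime.pow_left n (Nat.prime_two.coprime_iff_not_dvd.2 hd)).symm
  obtain ⟨k, hk⟩ := exists_pow_eq_self_of_coprime hcop
  refine ⟨(x ^ d) ^ k, ⟨a, ?_⟩, by rw [map_pow, map_pow, hk]⟩
  rw [← pow_mul, ← pow_mul, show d * (k * 2 ^ a) = 2 ^ a * d * k by ring, ← e, pow_mul,
    pow_orderOf_eq_one, one_pow]

open Classical in
/-- The lift of two-power order. -/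
noncomputable def lift2 (σ : Γ →* G) (g : G) : Γ :=
  if h : ∃ x : Γ, IsTwo x ∧ σ x = g then h.choose else 1

include hsur in
theorem lift2_spec {g : G} (hg : IsTwo g) : IsTwo (lift2 σ g) ∧ σ (lift2 σ g) = g := by
  have h := exists_isTwo_lift hsur hg
  rw [lift2, dif_pos h]
  exact h.choose_spec

include hsur hc hodd in
theorem lift2_eq {x : Γ} {g : G} (hx : IsTwo x) (e : σ x = g) : lift2 σ g = x := by
  have hg : IsTwo g := e ▸ hx.map σ
  obtain ⟨h1, h2⟩ := lift2_spec hsur hg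
  exact isTwo_unique hc hodd h1 hx (h2.trans e.symm)

include hsur hc hodd in
theorem conj_lift2 (x : Γ) {g : G} (hg : IsTwo g) :
    x * lift2 σ g * x⁻¹ = lift2 σ (σ x * g * (σ x)⁻¹) := by
  obtain ⟨h1, h2⟩ := lift2_spec hsur hg
  exact (lift2_eq hsur hc hodd (h1.conj x) (by rw [map_mul, map_mul, map_inv, h2])).symm

include hsur hc hodd in
theorem lift2_one : lift2 σ (1 : G) = 1 :=
  lift2_eq hsur hc hodd ⟨0, one_pow _⟩ (map_one σ)

include hsur hc hodd in
/-- On a two-subgroup the lifts multiply. -/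
theorem lift2_mul {X : Subgroup G} (hX : IsPGroup 2 ↥X) {g h : G} (hg : g ∈ X) (hh : h ∈ X) :
    lift2 σ (g * h) = lift2 σ g * lift2 σ h := by
  have : Fact (Nat.Prime 2) := ⟨Nat.prime_two⟩
  have two : ∀ {g}, g ∈ X → IsTwo g := fun {g} hg => by
    obtain ⟨n, hn⟩ := hX ⟨g, hg⟩
    exact ⟨n, congrArg Subtype.val hn⟩
  set f : ↥(X.comap σ) →* ↥X := σ.subgroupComap X
  have hf : Function.Surjective f := fun ⟨g, hg⟩ => by
    obtain ⟨x, rfl⟩ := hsur g
    exact ⟨⟨x, hg⟩, rfl⟩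
  have : Finite ↥X := Finite.of_surjective f hf
  obtain ⟨T, hT⟩ := (hX.to_subgroup (H := (⊤ : Subgroup ↥X))).exists_le_sylow
  obtain ⟨S, hS⟩ := CfsgLib.Schur.exists_sylow_map_eq hf T
  set M : Subgroup Γ := (S : Subgroup ↥(X.comap σ)).map (X.comap σ).subtype
  have key : ∀ {g}, g ∈ X → lift2 σ g ∈ M ∧ ∀ x ∈ M, σ x = g → lift2 σ g = x := by
    intro g hg
    have h2 : ∀ x ∈ M, σ x = g → lift2 σ g = x := by
      rintro _ ⟨y, hy, rfl⟩ e
      obtain ⟨n, hn⟩ := S.2 ⟨y, hy⟩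
      exact lift2_eq hsur hc hodd
        ⟨n, congrArg (fun w : ↥(S : Subgroup ↥(X.comap σ)) => ((w : ↥(X.comap σ)) : Γ)) hn⟩ e
    obtain ⟨y, hy, hye⟩ : (⟨g, hg⟩ : ↥X) ∈ (S : Subgroup ↥(X.comap σ)).map f := by
      rw [hS]; exact hT (mem_top _)
    have hm : (y : Γ) ∈ M := ⟨y, hy, rfl⟩
    exact ⟨by rw [h2 _ hm (congrArg Subtype.val hye)]; exact hm, h2⟩
  exact (key (mul_mem hg hh)).2 _ (mul_mem (key hg).1 (key hh).1)
    (by rw [map_mul, (lift2_spec hsur (two hg)).2, (lift2_spec hsur (two hh)).2])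

include hsur hc hodd in
theorem lift2_inv {g : G} (hg : IsTwo g) : lift2 σ g⁻¹ = (lift2 σ g)⁻¹ := by
  obtain ⟨h1, h2⟩ := lift2_spec hsur hg
  exact lift2_eq hsur hc hodd h1.inv (by rw [map_inv, h2])

/-- The lift of a subgroup generated by elements of two-power order. -/
def liftClosure (σ : Γ →* G) (X : Set G) : Subgroup Γ := Subgroup.closure (lift2 σ '' X)

include hsur in
theorem map_liftClosure {X : Set G} (hX : ∀ g ∈ X, IsTwo g) :
    (liftClosure σ X).map σ = Subgroup.closure X := by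
  rw [liftClosure, MonoidHom.map_closure, Set.image_image]
  congr 1
  ext g
  refine ⟨?_, fun hg => ⟨g, hg, (lift2_spec hsur (hX g hg)).2⟩⟩
  rintro ⟨h, hh, rfl⟩
  dsimp only
  rw [(lift2_spec hsur (hX h hh)).2]
  exact hh

include hsur hc hodd in
/-- The lift is faithful when the odd Sylow subgroups of the generated group are cyclic. -/
theorem liftClosure_inj [Finite G] {X : Set G} (hX : ∀ g ∈ X, IsTwo g)
    (hcyc : ∀ p : ℕ, p.Prime → p ≠ 2 → ∀ S : Sylow p ↥(Subgroup.closure X),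
      IsCyclic (S : Subgroup ↥(Subgroup.closure X))) :
    ∀ z ∈ liftClosure σ X, σ z = 1 → z = 1 := by
  set E := liftClosure σ X with hE
  set H := Subgroup.closure X with hH
  have hmap : E.map σ = H := map_liftClosure hsur hX
  set f : ↥E →* ↥H := ((σ.comp E.subtype).codRestrict H fun x => hmap ▸ mem_map_of_mem σ x.2)
  have hfc : f.ker ≤ center ↥E := fun z hz => mem_center_iff.2 fun y => Subtype.ext
    (CfsgLib.Schur.ker_commute hc (congrArg Subtype.val (MonoidHom.mem_ker.1 hz)) (y : Γ)).symm.eq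
  have hfd : f.ker ≤ commutator ↥E := by
    intro z hz
    set π : ↥E →* Abelianization ↥E := Abelianization.of
    have hgen : Subgroup.closure (((↑) : ↥E → Γ) ⁻¹' (lift2 σ '' X)) = ⊤ :=
      Subgroup.closure_closure_coe_preimage
    have h2 : ∀ y : ↥E, IsTwo (π y) := fun y => by
      refine Subgroup.closure_induction (p := fun y _ => IsTwo (π y)) ?_ ?_ ?_ ?_
        (hgen ▸ mem_top y : y ∈ Subgroup.closure (((↑) : ↥E → Γ) ⁻¹' (lift2 σ '' X)))
      · rintro y ⟨g, hg, e⟩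
        obtain ⟨n, hn⟩ := (lift2_spec hsur (hX g hg)).1
        refine IsTwo.map π ⟨n, Subtype.ext ?_⟩
        rw [SubmonoidClass.coe_pow, ← e, hn]; rfl
      · exact ⟨0, by simp⟩
      · rintro a b - - ⟨n, hn⟩ ⟨k, hk⟩
        refine ⟨n + k, ?_⟩
        rw [map_mul, mul_pow, pow_add, pow_mul, hn, one_pow, one_mul, mul_comm (2 ^ n), pow_mul, hk,
          one_pow]
      · intro a _ h
        rw [map_inv]; exact h.inv
    rw [← Abelianization.ker_of (G := ↥E), MonoidHom.mem_ker]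
    obtain ⟨n, hn⟩ := h2 z
    set N := Nat.card ↥σ.ker
    have hzN : π z ^ N = 1 := by
      rw [← map_pow, show z ^ N = 1 from Subtype.ext ?_, map_one]
      rw [SubmonoidClass.coe_pow, OneMemClass.coe_one]
      exact congrArg Subtype.val (pow_card_eq_one'
        (x := (⟨(z : Γ), congrArg Subtype.val (MonoidHom.mem_ker.1 hz)⟩ : ↥σ.ker)))
    have hg : Nat.gcd (2 ^ n) N = 1 :=
      (Nat.Coprime.pow_left n (Nat.prime_two.coprime_iff_not_dvd.2 hodd)).gcd_eq_one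
    have := pow_gcd_eq_one.mpr ⟨hn, hzN⟩
    rwa [hg, pow_one] at this
  have hsf : Function.Surjective f := fun ⟨g, hg⟩ => by
    obtain ⟨x, hx, rfl⟩ : g ∈ E.map σ := hmap.symm ▸ hg
    exact ⟨⟨x, hx⟩, rfl⟩
  intro z hzE hz
  by_contra hne
  set z' : ↥f.ker := ⟨⟨z, hzE⟩, Subtype.ext hz⟩
  have hcard : Nat.card ↥f.ker ≠ 1 := fun h => by
    have := congrArg Subtype.val (congrArg Subtype.val
      ((Nat.card_eq_one_iff_unique.1 h).1.elim z' 1))
    exact hne this
  obtain ⟨p, hp, hdvd⟩ := Nat.exists_prime_and_dvd hcard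
  have : Fact p.Prime := ⟨hp⟩
  obtain ⟨w, hw⟩ := exists_prime_orderOf_dvd_card' p hdvd
  have hw1 : ((w : ↥E) : Γ) ≠ 1 := fun e => by
    have h1 : w = 1 := Subtype.ext (Subtype.ext e)
    rw [h1, orderOf_one] at hw
    exact hp.one_lt.ne hw
  have hwp : (w : ↥E) ^ p = 1 := by rw [← SubmonoidClass.coe_pow, ← hw, pow_orderOf_eq_one]; rfl
  by_cases hp2 : p = 2
  · subst hp2
    exact hw1 (eq_one_of_isTwo hodd (congrArg Subtype.val (MonoidHom.mem_ker.1 w.2))
      ⟨1, congrArg Subtype.val hwp⟩)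
  · obtain ⟨S⟩ : Nonempty (Sylow p ↥H) := inferInstance
    have h := CfsgLib.Schur.noMultiplierAt_of_cyclic S (hcyc p hp hp2 S) ↥E f ⟨hsf, hfc, hfd⟩ w w.2 hwp
    exact hw1 (congrArg Subtype.val h)

end CfsgLib.LargeReeMult
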