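import Cfsg.Agent.Lib.LargeReeMult.Block
import Cfsg.Agent.Lib.LargeReeMult.OddLift
import Cfsg.Agent.Lib.ClassicalGroups.SL2

/-!
# The two Levi groups of `²F₄(q)` have cyclic Sylow subgroups of odd order
-/

set_option autoImplicit false

namespace CfsgLib.LargeReeMult

open Cfsg.Lie CfsgLib.ChevStr CfsgLib.Twisted CfsgLib.LargeReeAut CfsgLib.TwistAut
open scoped MatrixGroups Matrix

variable (K : Type*) [Field K] [CharP K 2] (m : ℕ)

/-- The positive orbit group. -/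
noncomputable def posX (i : Fin 2) : Subgroup (GL chevF4.Idx K) :=
  (frobF4 K m).fixU (inRoots (coreF4 K).R (orbF4.J i))

/-- The negative orbit group. -/
noncomputable def negX (i : Fin 2) : Subgroup (GL chevF4.Idx K) :=
  (frobF4 K m).fixU (negRootsIn (coreF4 K).R (orbF4.J i))

/-- The group generated by the two. -/
noncomputable def leviGrp (i : Fin 2) : Subgroup (GL chevF4.Idx K) := posX K m i ⊔ negX K m i

theorem levi_neg_roots : (∀ r ∈ [f4m1, f4m4], chevF4.IsNegRoot r ∧ SuppIn rootDataF4 (nodesF4 0) r) ∧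
    (∀ r ∈ [f4ma, f4mb, f4mab, f4maab], chevF4.IsNegRoot r ∧ SuppIn rootDataF4 (nodesF4 1) r) := by
  decide +kernel

theorem block_last : (reflDataF4.wordPerm (f4TwistWord 0) ⟨26, by decide⟩ : ℕ) = 25 ∧
    (reflDataF4.wordPerm (f4TwistWord 1) ⟨37, by decide⟩ : ℕ) = 33 := by decide +kernel

theorem block_alpha : rootDataF4.α 26 = rootDataF4.α f4p4 + rootDataF4.α f4b ∧
    rootDataF4.α 25 = rootDataF4.α f4b ∧ rootDataF4.α 33 = rootDataF4.α f4p1 ∧
    rootDataF4.α 34 = rootDataF4.α f4p1 + rootDataF4.α f4a := by decide +kernel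

variable {K m} [Fintype K] (hn : Fintype.card K = 2 * (2 ^ m * 2 ^ m))

omit [Fintype K] in
theorem posX_deg0 (i : Fin 2) : posX K m i ≤ deg0Sub (coreF4 K) (orbF4.J i) :=
  inf_le_left.trans ((coreF4 K).Ucl_le fun _ hr t => xGL_deg0 (coreF4 K) _ hr.2 t)

omit [Fintype K] in
theorem negX_deg0 (i : Fin 2) : negX K m i ≤ deg0Sub (coreF4 K) (orbF4.J i) :=
  inf_le_left.trans ((coreF4 K).Ucl_le fun _ hr t => xGL_deg0 (coreF4 K) _ hr.2 t)

omit [Fintype K] in
theorem leviGrp_deg0 (i : Fin 2) : leviGrp K m i ≤ deg0Sub (coreF4 K) (orbF4.J i) :=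
  sup_le (posX_deg0 i) (negX_deg0 i)

include hn

theorem posX_le (i : Fin 2) : posX K m i ≤ twistedF4 K (2 ^ m) := (gensF4 K hn).pos_le i

theorem negX_le (i : Fin 2) : negX K m i ≤ twistedF4 K (2 ^ m) := fun _ hx =>
  (negIn_le (gensF4 K hn) i hx).2

theorem leviGrp_le (i : Fin 2) : leviGrp K m i ≤ twistedF4 K (2 ^ m) :=
  sup_le (posX_le hn i) (negX_le hn i)

theorem isTwo_posX (i : Fin 2) {x : GL chevF4.Idx K} (hx : x ∈ posX K m i) : IsTwo x := by
  have : Fact (Nat.Prime 2) := ⟨Nat.prime_two⟩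
  obtain ⟨n, hn'⟩ := isPGroup_pU (C := coreF4 K) (G1 := twistedF4 K (2 ^ m)) 2
    ⟨x, fixU_in_le (gensF4 K hn) i hx⟩
  exact ⟨n, congrArg Subtype.val hn'⟩

theorem isTwo_negX (i : Fin 2) {x : GL chevF4.Idx K} (hx : x ∈ negX K m i) : IsTwo x := by
  have h := (isTwo_posX hn i (conj_negIn_mem (gensF4 K hn) i hx)).conj ((gensF4 K hn).s i)⁻¹
  simpa [mul_assoc] using h

/-- A homomorphism from a group generated by elements of two-power order to the units is trivial. -/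
theorem hom_units_eq_one (i : Fin 2) (f : ↥(leviGrp K m i) →* Kˣ) (x : ↥(leviGrp K m i)) : f x = 1 := by
  have hu : ∀ u : Kˣ, IsTwo u → u = 1 := by
    rintro u ⟨n, hu⟩
    have h1 : ((u : K) - 1) ^ 2 ^ n = 0 := by
      rw [sub_pow_char_pow, one_pow, ← Units.val_pow_eq_pow_val, hu, Units.val_one, sub_self]
    exact Units.ext (sub_eq_zero.1 (pow_eq_zero_iff (by positivity) |>.1 h1))
  have htwo : ∀ y : ↥(leviGrp K m i), IsTwo (y : GL chevF4.Idx K) → f y = 1 := fun y hy => by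
    obtain ⟨n, hy⟩ := hy
    exact hu _ ⟨n, by rw [← map_pow, show y ^ 2 ^ n = 1 from Subtype.ext (by simpa using hy), map_one]⟩
  obtain ⟨x, hx⟩ := x
  rw [leviGrp, ← Subgroup.closure_eq (posX K m i), ← Subgroup.closure_eq (negX K m i),
    ← Subgroup.closure_union] at hx
  have hle : Subgroup.closure ((posX K m i : Set (GL chevF4.Idx K)) ∪ negX K m i) = leviGrp K m i := by
    rw [Subgroup.closure_union, Subgroup.closure_eq, Subgroup.closure_eq, leviGrp]
  refine Subgroup.closure_induction (p := fun y hy => f ⟨y, hle ▸ hy⟩ = 1) ?_ ?_ ?_ ?_ hx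
  · rintro y (hy | hy)
    · exact htwo _ (isTwo_posX hn i hy)
    · exact htwo _ (isTwo_negX hn i hy)
  · exact map_one f
  · intro a b ha hb h1 h2
    show f (⟨a, hle ▸ ha⟩ * ⟨b, hle ▸ hb⟩) = 1
    rw [map_mul, h1, h2, one_mul]
  · intro a ha h1
    show f (⟨a, hle ▸ ha⟩⁻¹) = 1
    rw [map_inv, h1, inv_one]

/-- Elements of the Borel subgroup in a Levi group. -/
theorem bor_deg0 (i : Fin 2) {x : GL chevF4.Idx K} (hx : x ∈ bor (twistedF4 K (2 ^ m)))
    (h0 : x ∈ deg0Sub (coreF4 K) (orbF4.J i)) :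
    ∃ y ∈ posX K m i, ∃ h ∈ tor (twistedF4 K (2 ^ m)), x = y * h := by
  obtain ⟨u, hu, h, hh, rfl⟩ := (gensF4 K hn).twist.mem_B_inf.1 hx
  change u ∈ pU _ at hu
  change h ∈ tor _ at hh
  obtain ⟨a, ha, c, hc, rfl⟩ := exists_split (coreF4 K) (orbF4.J i) hu.1
  have ha0 : a ∈ deg0Sub (coreF4 K) (orbF4.J i) :=
    (coreF4 K).Ucl_le (fun r hr t => xGL_deg0 (coreF4 K) _ hr.2 t) ha
  have hc0 : c ∈ deg0Sub (coreF4 K) (orbF4.J i) := by
    have e : c = a⁻¹ * (a * c * h) * h⁻¹ := by group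
    rw [e]
    exact mul_mem (mul_mem (inv_mem ha0) h0) (inv_mem (tor_deg0 _ hh.1))
  obtain rfl := out_deg0_eq_one (coreF4 K) _ hc hc0
  rw [mul_one] at hu ⊢
  exact ⟨a, Subgroup.mem_inf.2 ⟨ha, le_fixedF4 K hn hu.2⟩, h, hh, rfl⟩

/-- The two cells of a Levi group. -/
theorem levi_cases (i : Fin 2) {x : GL chevF4.Idx K} (hx : x ∈ leviGrp K m i) :
    (∃ y ∈ posX K m i, ∃ h ∈ tor (twistedF4 K (2 ^ m)), x = y * h) ∨
      ∃ y ∈ posX K m i, ∃ h ∈ tor (twistedF4 K (2 ^ m)), ∃ t ∈ posX K m i,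
        x = y * h * (gensF4 K hn).s i * t := by
  have hp : leviGrp K m i ≤ para (gensF4 K hn) i :=
    sup_le (fun u hu => Or.inl (pU_le_bor _ (fixU_in_le (gensF4 K hn) i hu)))
      (negIn_le_para (gensF4 K hn) i)
  rcases (mem_para (gensF4 K hn)).1 (hp hx) with hb | hc
  · exact Or.inl (bor_deg0 hn i hb (leviGrp_deg0 i hx))
  · obtain ⟨t, ht, hb⟩ := exists_param (gensF4 K hn) hc
    have h0 : x * ((gensF4 K hn).s i * t)⁻¹ ∈ deg0Sub (coreF4 K) (orbF4.J i) :=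
      mul_mem (leviGrp_deg0 i hx) (inv_mem (mul_mem
        (monomial_deg0 (coreF4 K) _ ((gensF4 K hn).s_mem_N i) ((gensF4 K hn).s_moves i)
          ((gensF4 K hn).wJ_mem i)) (posX_deg0 i ht)))
    obtain ⟨y, hy, h, hh, e⟩ := bor_deg0 hn i hb h0
    refine Or.inr ⟨y, hy, h, hh, t, ht, ?_⟩
    rw [← e]; group

/-- A Levi group contains a representative of its reflection. -/
theorem exists_rep_levi (i : Fin 2) {v : GL chevF4.Idx K} (hv : v ∈ negX K m i) (hne : v ≠ 1) :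
    ∃ y ∈ posX K m i, ∃ t ∈ posX K m i, ∃ h ∈ tor (twistedF4 K (2 ^ m)),
      h * (gensF4 K hn).s i = y⁻¹ * v * t⁻¹ := by
  obtain ⟨y, hy, h, hh, t, ht, e⟩ := exists_levi (gensF4 K hn) i hv hne
  exact ⟨y, hy, t, ht, h, hh, by rw [e]; group⟩

/-- A Levi group is generated by its positive part and one further element. -/
theorem leviGrp_le_closure (i : Fin 2) {v : GL chevF4.Idx K} (hv : v ∈ negX K m i) (hne : v ≠ 1)
    {H : Subgroup (GL chevF4.Idx K)} (hX : posX K m i ≤ H) (hvH : v ∈ H) : leviGrp K m i ≤ H := by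
  refine sup_le hX fun w hw => ?_
  obtain ⟨y, hy, t, ht, h, hh, e⟩ := exists_rep_levi hn i hv hne
  have hn1 : h * (gensF4 K hn).s i ∈ H := by
    rw [e]; exact mul_mem (mul_mem (inv_mem (hX hy)) hvH) (inv_mem (hX ht))
  have hw' : h⁻¹ * w * h ∈ negX K m i := by
    simpa [negX] using tor_conj (gensF4 K hn) (inv_mem hh) _ hw
  obtain ⟨a, ha, hae⟩ := exists_pre_pos (gensF4 K hn) i hw'
  rw [show w = h * (gensF4 K hn).s i * a * (h * (gensF4 K hn).s i)⁻¹ by
    rw [show w = h * (h⁻¹ * w * h) * h⁻¹ by group, ← hae]; group]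
  exact mul_mem (mul_mem hn1 (hX ha)) (inv_mem hn1)

end CfsgLib.LargeReeMult
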