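import Cfsg.Agent.Lib.LargeReeMult.Fixed

/-!
# The exceptional pairings in the unipotent group of `²F₄(q)`

The only pairs of orbits that torus characters do not separate lie in the four conjugates of the
root group of Suzuki type.  In a central extension their lifts commute: for one of them this follows
from an expression of the centre as commutators with another root group, and the other three are
moved to it by representatives of the twisted Weyl group.
-/

set_option autoImplicit false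

namespace CfsgLib.LargeReeMult

open Cfsg.Lie CfsgLib.ChevStr CfsgLib.Twisted CfsgLib.LargeReeAut CfsgLib.TwistAut
open scoped MatrixGroups commutatorElement

universe u

/-- The roots of one orbit. -/
def pairList (k : ℕ) : List ℕ := [rootA k, rootB k]

/-- The roots of two orbits. -/
def quadList (j i : ℕ) : List ℕ := [rootA j, rootB j, rootA i, rootB i]

/-- All terms of the commutator formula between two lists vanish in characteristic two. -/
def evenCheck (L L' : List ℕ) : Bool :=
  L.all fun r => L'.all fun s => (decide (chevF4.IsPosRoot r) && decide (chevF4.IsPosRoot s)) &&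
    (s == r || (chevF4.commTerms r s).all fun c => c.2.1 % 2 == 0)

/-- The odd terms of the commutator formula between two lists lie in a third. -/
def oddCheck (L L' T : List ℕ) : Bool :=
  L.all fun r => L'.all fun s => (decide (chevF4.IsPosRoot r) && decide (chevF4.IsPosRoot s)) &&
    (s == r || (chevF4.commTerms r s).all fun c => c.2.1 % 2 == 0 || T.contains c.1)

theorem pairing_tables :
    (∀ k ∈ [0, 3, 7, 10, 11], evenCheck (pairList k) (pairList k) = true) ∧
    (∀ p ∈ badPairs, evenCheck (quadList p.1 p.2) (pairList p.2) = true ∧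
      oddCheck (quadList p.1 p.2) (quadList p.1 p.2) (pairList p.2) = true) ∧
    evenCheck (pairList 7) (pairList 10) = true ∧ evenCheck (pairList 7) (pairList 11) = true ∧
    evenCheck (pairList 10) (pairList 11) = true ∧ evenCheck (quadList 5 11) (pairList 10) = true ∧
    evenCheck (quadList 5 11) (pairList 7) = true ∧ evenCheck (pairList 0) (pairList 7) = true ∧
    evenCheck (pairList 0) (pairList 11) = true ∧
    oddCheck (quadList 5 11) (pairList 0) (pairList 7) = true ∧
    chevF4.commTerms 33 40 = [(44, 1, 1, 1)] ∧ chevF4.commTerms 24 46 = [(47, 1, 1, 1)] ∧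
    evenCheck [24] [40] = true ∧ evenCheck [33] [46] = true := by
  decide +kernel

theorem transport_tables : ∀ p ∈ [(((1, 3), (2, 7)), (0 : Fin 2)), (((2, 7), (4, 10)), 1),
    (((4, 10), (5, 11)), 0)], ∀ r : Fin chevF4.nroots,
    ((r : ℕ) ∈ quadList p.1.1.1 p.1.1.2 →
      (reflDataF4.wordPerm (f4TwistWord p.2) r : ℕ) ∈ quadList p.1.2.1 p.1.2.2) ∧
    ((r : ℕ) ∈ pairList p.1.1.2 →
      (reflDataF4.wordPerm (f4TwistWord p.2) r : ℕ) ∈ pairList p.1.2.2) := by
  decide +kernel

variable {K : Type*} [Field K] [CharP K 2]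

theorem xGL_commute_of_check {L L' : List ℕ} (h : evenCheck L L' = true) {r s : ℕ} (hr : r ∈ L)
    (hs : s ∈ L') (t u : K) : Commute ((coreF4 K).xGL r t) ((coreF4 K).xGL s u) := by
  simp only [evenCheck, List.all_eq_true, Bool.and_eq_true, Bool.or_eq_true, decide_eq_true_eq,
    beq_iff_eq] at h
  obtain ⟨⟨hrp, hsp⟩, h1⟩ := h r hr s hs
  by_cases hne : s = r
  · subst hne
    show _ * _ = _ * _
    rw [← ChevCore.xGL_add, ← ChevCore.xGL_add, add_comm]
  refine ((coreF4 K).xGL_commute hrp.1 hsp.1 hne (fun e => ?_) (fun c hc => ?_) t u).symm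
  · exact (coreF4 K).R.not_pos_and_neg hsp (by rw [e, (coreF4 K).R.isNeg_neg_iff hrp.1]; exact hrp)
  · obtain ⟨k, hk⟩ := Int.dvd_of_emod_eq_zero ((h1.resolve_left hne) c hc)
    rw [hk, Int.cast_mul, Int.cast_ofNat, CharTwo.two_eq_zero, zero_mul]

theorem Ucl_commute {L L' : List ℕ} (h : evenCheck L L' = true) {a b : GL chevF4.Idx K}
    (ha : a ∈ (coreF4 K).Ucl {r | r ∈ L}) (hb : b ∈ (coreF4 K).Ucl {r | r ∈ L'}) : Commute a b := by
  have h1 : (coreF4 K).Ucl {r | r ∈ L} ≤ Subgroup.centralizer {b} := by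
    refine (coreF4 K).Ucl_le fun r hr t => ?_
    have h2 : (coreF4 K).Ucl {r | r ∈ L'} ≤ Subgroup.centralizer {(coreF4 K).xGL r t} := by
      refine (coreF4 K).Ucl_le fun s hs u => ?_
      rw [Subgroup.mem_centralizer_singleton_iff]
      exact (xGL_commute_of_check h hr hs t u).symm.eq
    rw [Subgroup.mem_centralizer_singleton_iff]
    exact (Subgroup.mem_centralizer_singleton_iff.1 (h2 hb)).symm
  exact Subgroup.mem_centralizer_singleton_iff.1 (h1 ha)

omit [CharP K 2] in
theorem orbElt_mem_pair (k : ℕ) (s t : K) :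
    orbElt k s t ∈ (coreF4 K).Ucl {r | r ∈ pairList k} :=
  mul_mem ((coreF4 K).xGL_mem_Ucl (by simp [pairList]) s) ((coreF4 K).xGL_mem_Ucl (by simp [pairList]) t)

/-- Normal form in a commuting orbit. -/
theorem exists_pair {k : ℕ} (h : evenCheck (pairList k) (pairList k) = true) {g : GL chevF4.Idx K}
    (hg : g ∈ (coreF4 K).Ucl {r | r ∈ pairList k}) : ∃ s t, g = orbElt k s t := by
  let H : Subgroup (GL chevF4.Idx K) :=
    { carrier := {g | ∃ s t, g = orbElt k s t}
      one_mem' := ⟨0, 0, by simp [orbElt, (coreF4 K).xGL_zero]⟩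
      mul_mem' := by
        rintro _ _ ⟨s, t, rfl⟩ ⟨s', t', rfl⟩
        refine ⟨s + s', t + t', ?_⟩
        have hc := xGL_commute_of_check h (r := rootB k) (s := rootA k) (by simp [pairList])
          (by simp [pairList]) t s'
        simp only [orbElt, ChevCore.xGL_add]
        calc (coreF4 K).xGL (rootA k) s * (coreF4 K).xGL (rootB k) t *
              ((coreF4 K).xGL (rootA k) s' * (coreF4 K).xGL (rootB k) t')
            = (coreF4 K).xGL (rootA k) s * ((coreF4 K).xGL (rootB k) t * (coreF4 K).xGL (rootA k) s') *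
              (coreF4 K).xGL (rootB k) t' := by group
          _ = _ := by rw [hc.eq]; group
      inv_mem' := by
        rintro _ ⟨s, t, rfl⟩
        refine ⟨-s, -t, ?_⟩
        rw [orbElt, mul_inv_rev, (coreF4 K).xGL_inv, (coreF4 K).xGL_inv,
          (xGL_commute_of_check h (r := rootB k) (s := rootA k) (by simp [pairList])
            (by simp [pairList]) (-t) (-s)).eq, orbElt] }
  refine (show (coreF4 K).Ucl {r | r ∈ pairList k} ≤ H from (coreF4 K).Ucl_le fun r hr t => ?_) hg
  simp only [pairList, Set.mem_ofPred_eq, List.mem_cons, List.not_mem_nil, or_false] at hr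
  rcases hr with rfl | rfl
  · exact ⟨t, 0, by simp [orbElt, (coreF4 K).xGL_zero]⟩
  · exact ⟨0, t, by simp [orbElt, (coreF4 K).xGL_zero]⟩

theorem swap_of_oddCheck {L L' T : List ℕ} (h : oddCheck L L' T = true) {r s : ℕ} (hr : r ∈ L)
    (hs : s ∈ L') (t u : K) : ∃ w ∈ (coreF4 K).Ucl {k | k ∈ T},
      (coreF4 K).xGL s u * (coreF4 K).xGL r t = (coreF4 K).xGL r t * (coreF4 K).xGL s u * w := by
  simp only [oddCheck, List.all_eq_true, Bool.and_eq_true, Bool.or_eq_true, decide_eq_true_eq,
    beq_iff_eq, List.contains_iff_mem] at h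
  obtain ⟨⟨hrp, hsp⟩, h1⟩ := h r hr s hs
  by_cases hne : s = r
  · subst hne
    exact ⟨1, one_mem _, by rw [mul_one, ← ChevCore.xGL_add, ← ChevCore.xGL_add, add_comm]⟩
  refine ⟨_, Subgroup.list_prod_mem _ fun x hx => ?_, (coreF4 K).xGL_comm hrp.1 hsp.1 hne
    (fun e => (coreF4 K).R.not_pos_and_neg hsp
      (by rw [e, (coreF4 K).R.isNeg_neg_iff hrp.1]; exact hrp)) t u⟩
  simp only [List.mem_map, ChevalleyDatum.commWord] at hx
  obtain ⟨p, ⟨c, hc, rfl⟩, rfl⟩ := hx
  rcases (h1.resolve_left hne) c hc with h2 | h2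
  · obtain ⟨k, hk⟩ := Int.dvd_of_emod_eq_zero h2
    simp [hk, CharTwo.two_eq_zero, (coreF4 K).xGL_zero, one_mem]
  · exact (coreF4 K).xGL_mem_Ucl h2 _

/-- Commutators between two groups fall in a central third one. -/
theorem comm_of_oddCheck {L L' T : List ℕ} (h : oddCheck L L' T = true)
    (hT : evenCheck L T = true) (hT' : evenCheck L' T = true) {a b : GL chevF4.Idx K}
    (ha : a ∈ (coreF4 K).Ucl {r | r ∈ L}) (hb : b ∈ (coreF4 K).Ucl {r | r ∈ L'}) :
    ⁅a, b⁆ ∈ (coreF4 K).Ucl {r | r ∈ T} := by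
  set W := (coreF4 K).Ucl {r | r ∈ T}
  have hcent : ∀ x ∈ (coreF4 K).Ucl {r | r ∈ L}, ∀ w ∈ W, x * w * x⁻¹ ∈ W := fun x hx w hw => by
    rw [(Ucl_commute hT hx hw).eq, mul_inv_cancel_right]; exact hw
  have hcent' : ∀ x ∈ (coreF4 K).Ucl {r | r ∈ L'}, ∀ w ∈ W, x * w * x⁻¹ ∈ W := fun x hx w hw => by
    rw [(Ucl_commute hT' hx hw).eq, mul_inv_cancel_right]; exact hw
  revert b
  refine Subgroup.closure_induction
    (p := fun a _ => ∀ {b}, b ∈ (coreF4 K).Ucl {r | r ∈ L'} → ⁅a, b⁆ ∈ W) ?_ ?_ ?_ ?_ ha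
  · rintro _ ⟨r, hr, t, rfl⟩ b hb
    refine Subgroup.closure_induction (p := fun b _ => ⁅(coreF4 K).xGL r t, b⁆ ∈ W) ?_ ?_ ?_ ?_ hb
    · rintro _ ⟨s, hs, u, rfl⟩
      obtain ⟨w, hw, e⟩ := swap_of_oddCheck (K := K) h hr hs t u
      rw [show ⁅(coreF4 K).xGL r t, (coreF4 K).xGL s u⁆ =
        (coreF4 K).xGL r t * (coreF4 K).xGL s u * ((coreF4 K).xGL s u * (coreF4 K).xGL r t)⁻¹ by
          rw [commutatorElement_def]; group, e, mul_inv_rev, ← mul_assoc]
      have h1 := hcent _ ((coreF4 K).xGL_mem_Ucl hr t) _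
        (hcent' _ ((coreF4 K).xGL_mem_Ucl hs u) _ (inv_mem hw))
      simpa [mul_assoc] using h1
    · simp [one_mem]
    · intro x y hx _ h1 h2
      rw [show ⁅(coreF4 K).xGL r t, x * y⁆ = ⁅(coreF4 K).xGL r t, x⁆ *
        (x * ⁅(coreF4 K).xGL r t, y⁆ * x⁻¹) by simp only [commutatorElement_def]; group]
      exact mul_mem h1 (hcent' x hx _ h2)
    · intro x hx h1
      rw [show ⁅(coreF4 K).xGL r t, x⁻¹⁆ = x⁻¹ * ⁅(coreF4 K).xGL r t, x⁆⁻¹ * x⁻¹⁻¹ by
        simp only [commutatorElement_def]; group]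
      exact hcent' _ (inv_mem hx) _ (inv_mem h1)
  · intro b _; simp [one_mem]
  · intro x y hx _ h1 h2 b hb
    rw [show ⁅x * y, b⁆ = x * ⁅y, b⁆ * x⁻¹ * ⁅x, b⁆ by simp only [commutatorElement_def]; group]
    exact mul_mem (hcent x hx _ (h2 hb)) (h1 hb)
  · intro x hx h1 b hb
    rw [show ⁅x⁻¹, b⁆ = x⁻¹ * ⁅x, b⁆⁻¹ * x⁻¹⁻¹ by simp only [commutatorElement_def]; group]
    exact hcent _ (inv_mem hx) _ (inv_mem (h1 hb))

/-- Normal form in a group of two orbits of Suzuki type. -/
theorem exists_quad {j i : ℕ} (he : evenCheck (quadList j i) (pairList i) = true)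
    (ho : oddCheck (quadList j i) (quadList j i) (pairList i) = true) {g : GL chevF4.Idx K}
    (hg : g ∈ (coreF4 K).Ucl {r | r ∈ quadList j i}) :
    ∃ s t, ∃ z ∈ (coreF4 K).Ucl {r | r ∈ pairList i}, g = orbElt j s t * z := by
  set Q := (coreF4 K).Ucl {r | r ∈ quadList j i}
  set W := (coreF4 K).Ucl {r | r ∈ pairList i}
  have hjQ : ∀ s t : K, orbElt j s t ∈ Q := fun s t =>
    mul_mem ((coreF4 K).xGL_mem_Ucl (by simp [quadList]) s) ((coreF4 K).xGL_mem_Ucl (by simp [quadList]) t)
  have hWQ : W ≤ Q := (coreF4 K).Ucl_mono fun r hr => by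
    simp only [quadList, pairList, Set.mem_ofPred_eq, List.mem_cons, List.not_mem_nil, or_false] at hr ⊢
    tauto
  let H : Subgroup (GL chevF4.Idx K) :=
    { carrier := {g | ∃ s t, ∃ z ∈ W, g = orbElt j s t * z}
      one_mem' := ⟨0, 0, 1, one_mem _, by simp [orbElt, (coreF4 K).xGL_zero]⟩
      mul_mem' := by
        rintro _ _ ⟨s, t, z, hz, rfl⟩ ⟨s', t', z', hz', rfl⟩
        obtain ⟨w, hw, e⟩ := swap_of_oddCheck (K := K) ho (r := rootA j) (s := rootB j)
          (by simp [quadList]) (by simp [quadList]) s' t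
        refine ⟨s + s', t + t', w * z * z', mul_mem (mul_mem hw hz) hz', ?_⟩
        have c1 := Ucl_commute he (hjQ s' t') hz
        have c2 := Ucl_commute he ((coreF4 K).xGL_mem_Ucl
          (show rootB j ∈ {r | r ∈ quadList j i} by simp [quadList]) t') hw
        simp only [orbElt, ChevCore.xGL_add]
        calc _ = orbElt j s t * (orbElt j s' t' * z) * z' := by
              rw [c1.eq]; simp only [orbElt]; group
          _ = (coreF4 K).xGL (rootA j) s *
              ((coreF4 K).xGL (rootB j) t * (coreF4 K).xGL (rootA j) s') *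
              (coreF4 K).xGL (rootB j) t' * z * z' := by simp only [orbElt]; group
          _ = (coreF4 K).xGL (rootA j) s * (coreF4 K).xGL (rootA j) s' *
              (coreF4 K).xGL (rootB j) t * (w * (coreF4 K).xGL (rootB j) t') * z * z' := by
              rw [e]; group
          _ = _ := by rw [← c2.eq]; group
      inv_mem' := by
        rintro _ ⟨s, t, z, hz, rfl⟩
        obtain ⟨w, hw, e⟩ := swap_of_oddCheck (K := K) ho (r := rootA j) (s := rootB j)
          (by simp [quadList]) (by simp [quadList]) (-s) (-t)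
        refine ⟨-s, -t, w * z⁻¹, mul_mem hw (inv_mem hz), ?_⟩
        rw [mul_inv_rev, ← (Ucl_commute he (inv_mem (hjQ s t)) (inv_mem hz)).eq, orbElt, mul_inv_rev,
          (coreF4 K).xGL_inv, (coreF4 K).xGL_inv, e, orbElt]
        group }
  refine (show Q ≤ H from (coreF4 K).Ucl_le fun r hr t => ?_) hg
  simp only [quadList, Set.mem_ofPred_eq, List.mem_cons, List.not_mem_nil, or_false] at hr
  rcases hr with rfl | rfl | rfl | rfl
  · exact ⟨t, 0, 1, one_mem _, by simp [orbElt, (coreF4 K).xGL_zero]⟩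
  · exact ⟨0, t, 1, one_mem _, by simp [orbElt, (coreF4 K).xGL_zero]⟩
  · exact ⟨0, 0, _, (coreF4 K).xGL_mem_Ucl (r := rootA i) (by simp [pairList]) t,
      by simp [orbElt, (coreF4 K).xGL_zero]⟩
  · exact ⟨0, 0, _, (coreF4 K).xGL_mem_Ucl (r := rootB i) (by simp [pairList]) t,
      by simp [orbElt, (coreF4 K).xGL_zero]⟩

end CfsgLib.LargeReeMult
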