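import Cfsg.Agent.Lib.LargeReeMult.Assembly

/-!
# The Bruhat decomposition lifts: the multiplier of `²F₄(q)` is trivial
-/

set_option autoImplicit false

namespace CfsgLib.LargeReeMult

open Cfsg.Lie CfsgLib.ChevStr CfsgLib.Twisted CfsgLib.LargeReeAut CfsgLib.TwistAut
open scoped MatrixGroups

universe u

variable {K : Type u} [Field K] [Fintype K] [CharP K 2] {m : ℕ}
  {Γ : Type u} [Group Γ] [Finite Γ] {σ : Γ →* ↥(twistedF4 K (2 ^ m))}

/-- The lift of the unipotent group. -/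
def liftU (σ : Γ →* ↥(twistedF4 K (2 ^ m))) : Set Γ := {x | ∃ g ∈ tailG K m 0, x = lift2 σ g}

/-- The lift of a Levi group. -/
def liftL (σ : Γ →* ↥(twistedF4 K (2 ^ m))) (i : Fin 2) : Subgroup Γ := liftClosure σ (leviGens K m i)

/-- The lift of the torus of a Levi group. -/
noncomputable def liftH (σ : Γ →* ↥(twistedF4 K (2 ^ m))) (i : Fin 2) : Subgroup Γ :=
  liftL σ i ⊓ (torSub K m).comap σ

/-- The lift of the torus. -/
noncomputable def liftT (σ : Γ →* ↥(twistedF4 K (2 ^ m))) : Subgroup Γ := liftH σ 0 ⊔ liftH σ 1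

variable (hn : Fintype.card K = 2 * (2 ^ m * 2 ^ m)) (hm : 1 ≤ m)
  (hsur : Function.Surjective σ) (hc : σ.ker ≤ Subgroup.center Γ) (hodd : ¬ 2 ∣ Nat.card ↥σ.ker)

include hn hsur hc hodd

omit [Finite Γ] hsur hc hodd in
theorem isTwo_tail {g : ↥(twistedF4 K (2 ^ m))} (hg : g ∈ tailG K m 0) : IsTwo g := by
  obtain ⟨n, h⟩ := isPGroup_tailG_zero (K := K) (m := m) ⟨g, hg⟩
  exact ⟨n, congrArg Subtype.val h⟩

theorem liftU_mul {x y : Γ} (hx : x ∈ liftU σ) (hy : y ∈ liftU σ) : x * y ∈ liftU σ := by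
  obtain ⟨g, hg, rfl⟩ := hx
  obtain ⟨h, hh, rfl⟩ := hy
  exact ⟨g * h, mul_mem hg hh, (lift2_mul hsur hc hodd (isPGroup_tailG_zero (K := K) (m := m)) hg hh).symm⟩

theorem one_mem_liftU : (1 : Γ) ∈ liftU σ := ⟨1, one_mem _, (lift2_one hsur hc hodd).symm⟩

theorem liftU_inv {x : Γ} (hx : x ∈ liftU σ) : x⁻¹ ∈ liftU σ := by
  obtain ⟨g, hg, rfl⟩ := hx
  exact ⟨g⁻¹, inv_mem hg, (lift2_inv hsur hc hodd (isTwo_tail hn hg)).symm⟩

theorem σ_liftU {x : Γ} (hx : x ∈ liftU σ) : σ x ∈ tailG K m 0 := by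
  obtain ⟨g, hg, rfl⟩ := hx
  rw [(lift2_spec hsur (isTwo_tail hn hg)).2]
  exact hg

theorem conj_liftU (x : Γ) {g : ↥(twistedF4 K (2 ^ m))} (hg : IsTwo g)
    (h : σ x * g * (σ x)⁻¹ ∈ tailG K m 0) : x * lift2 σ g * x⁻¹ ∈ liftU σ :=
  ⟨_, h, conj_lift2 hsur hc hodd x hg⟩

theorem conj_liftL (x : Γ) {i j : Fin 2}
    (h : ∀ g ∈ leviGens K m i, σ x * g * (σ x)⁻¹ ∈ leviGens K m j) {y : Γ} (hy : y ∈ liftL σ i) :
    x * y * x⁻¹ ∈ liftL σ j := by
  refine (show liftL σ i ≤ (liftL σ j).comap (MulAut.conj x).toMonoidHom from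
    (Subgroup.closure_le _).2 ?_) hy
  rintro _ ⟨g, hg, rfl⟩
  show x * lift2 σ g * x⁻¹ ∈ liftL σ j
  rw [conj_lift2 hsur hc hodd x (isTwo_leviGens hn i g hg)]
  exact Subgroup.subset_closure ⟨_, h g hg, rfl⟩

theorem torSub_leviGens (i : Fin 2) {t g : ↥(twistedF4 K (2 ^ m))} (ht : t ∈ torSub K m)
    (hg : g ∈ leviGens K m i) : t * g * t⁻¹ ∈ leviGens K m i := by
  rcases hg with hg | hg
  · exact Or.inl (tor_conj (gensF4 K hn) (h := (t : GL chevF4.Idx K)) ⟨ht, t.2⟩ _ hg)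
  · exact Or.inr (tor_conj (gensF4 K hn) (h := (t : GL chevF4.Idx K)) ⟨ht, t.2⟩ _ hg)

include hm in
theorem liftL_inj (i : Fin 2) : ∀ z ∈ liftL σ i, σ z = 1 → z = 1 :=
  liftClosure_inj hsur hc hodd (isTwo_leviGens hn i) (leviGens_sylow_cyclic hn hm i)

theorem σ_liftL (i : Fin 2) {x : Γ} (hx : x ∈ liftL σ i) :
    (σ x : GL chevF4.Idx K) ∈ leviGrp K m i := by
  have h : σ x ∈ Subgroup.closure (leviGens K m i) := by
    rw [← map_liftClosure hsur (isTwo_leviGens hn i)]; exact Subgroup.mem_map_of_mem σ hx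
  exact map_leviGens_le i (Subgroup.mem_map_of_mem _ h)

omit [Finite Γ] hn hsur hc hodd in
theorem σ_liftT {x : Γ} (hx : x ∈ liftT σ) : σ x ∈ torSub K m :=
  (sup_le inf_le_right inf_le_right : liftT σ ≤ (torSub K m).comap σ) hx

theorem torus_normalizes_liftL (i : Fin 2) {x : Γ} (hx : σ x ∈ torSub K m) {y : Γ}
    (hy : y ∈ liftL σ i) : x * y * x⁻¹ ∈ liftL σ i :=
  conj_liftL hn hsur hc hodd x (fun _ hg => torSub_leviGens hn hsur hc hodd i hx hg) hy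

include hm in
theorem liftH_commute {a b : Γ} (ha : a ∈ liftH σ 0) (hb : b ∈ liftH σ 1) : Commute a b := by
  have h1 : a * b * a⁻¹ * b⁻¹ ∈ liftL σ 1 :=
    mul_mem (torus_normalizes_liftL hn hsur hc hodd 1 ha.2 hb.1) (inv_mem hb.1)
  have h2 : σ (a * b * a⁻¹ * b⁻¹) = 1 := by
    rw [map_mul, map_mul, map_mul, map_inv, map_inv, (torSub_commute ha.2 hb.2).eq]; group
  have := liftL_inj hn hm hsur hc hodd 1 _ h1 h2
  rw [mul_inv_eq_one, mul_inv_eq_iff_eq_mul] at this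
  exact this

include hm in
theorem liftT_prod {x : Γ} (hx : x ∈ liftT σ) : ∃ a ∈ liftH σ 0, ∃ b ∈ liftH σ 1, x = a * b := by
  have hnorm : liftH σ 0 ≤ Subgroup.normalizer (liftH σ 1 : Set Γ) := fun a ha =>
    Subgroup.mem_normalizer_iff.2 fun b => ⟨fun hb => by
      rw [(liftH_commute hn hm hsur hc hodd ha hb).eq, mul_inv_cancel_right]; exact hb, fun hb => by
      have := liftH_commute hn hm hsur hc hodd (inv_mem ha) hb
      rw [show b = a⁻¹ * (a * b * a⁻¹) * a⁻¹⁻¹ by group, this.eq, mul_inv_cancel_right]; exact hb⟩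
  obtain ⟨a, ha, b, hb, e⟩ := (Set.ext_iff.1
    (Subgroup.coe_mul_of_left_le_normalizer_right _ _ hnorm) x).1 hx
  exact ⟨a, ha, b, hb, e.symm⟩

include hm in
theorem liftT_inj {x : Γ} (hx : x ∈ liftT σ) (h1 : σ x = 1) : x = 1 := by
  obtain ⟨a, ha, b, hb, rfl⟩ := liftT_prod hn hm hsur hc hodd hx
  rw [map_mul] at h1
  have hL : (σ a : GL chevF4.Idx K) = 1 := by
    refine levi_tor_eq_one hn (σ_liftL hn hsur hc hodd 0 ha.1) ?_ ⟨ha.2, (σ a).2⟩
    rw [eq_inv_of_mul_eq_one_left h1, InvMemClass.coe_inv]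
    exact inv_mem (σ_liftL hn hsur hc hodd 1 hb.1)
  have hσa : σ a = 1 := Subtype.ext hL
  rw [hσa, one_mul] at h1
  rw [liftL_inj hn hm hsur hc hodd 0 a ha.1 hσa, liftL_inj hn hm hsur hc hodd 1 b hb.1 h1, one_mul]

/-- Representatives of the reflections in the lifted Levi groups. -/
theorem exists_liftN : ∃ nn : Fin 2 → Γ, ∀ i, nn i ∈ liftL σ i ∧
    ∃ h ∈ tor (twistedF4 K (2 ^ m)), (σ (nn i) : GL chevF4.Idx K) = h * (gensF4 K hn).s i := by
  have h : ∀ i, ∃ x : Γ, x ∈ liftL σ i ∧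
      ∃ h ∈ tor (twistedF4 K (2 ^ m)), (σ x : GL chevF4.Idx K) = h * (gensF4 K hn).s i := by
    intro i
    obtain ⟨r, hr, hh⟩ := exists_levi_rep hn i
    rw [← map_liftClosure hsur (isTwo_leviGens hn i)] at hr
    obtain ⟨x, hx, rfl⟩ := hr
    exact ⟨x, hx, hh⟩
  exact ⟨fun i => (h i).choose, fun i => (h i).choose_spec⟩

variable {nn : Fin 2 → Γ} (hN : ∀ i, nn i ∈ liftL σ i ∧
    ∃ h ∈ tor (twistedF4 K (2 ^ m)), (σ (nn i) : GL chevF4.Idx K) = h * (gensF4 K hn).s i)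

include hN

theorem moves_nn (i : Fin 2) : (σ (nn i) : GL chevF4.Idx K) ∈ chevF4.monomialSubgroup K ∧
    (coreF4 K).Moves (σ (nn i) : GL chevF4.Idx K) (twPerm i) := by
  obtain ⟨-, h, hh, e⟩ := hN i
  rw [e, ← wJ_twPerm hn i]
  refine ⟨mul_mem (le_sup_left (a := chevF4.diagonalSubgroup K) hh.1) ((gensF4 K hn).s_mem_N i), ?_⟩
  have := ChevCore.Moves.mul (coreF4 K) (moves_tor hh.1) ((gensF4 K hn).s_moves i)
  rwa [one_mul] at this

theorem conj_torSub_nn (i : Fin 2) {t : ↥(twistedF4 K (2 ^ m))} (ht : t ∈ torSub K m) :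
    σ (nn i) * t * (σ (nn i))⁻¹ ∈ torSub K m :=
  (coreF4 K).conj_diagonal_mem (moves_nn hn hsur hc hodd hN i).1 ht

theorem sq_nn (i : Fin 2) : nn i * nn i ∈ liftH σ i := by
  refine ⟨mul_mem (hN i).1 (hN i).1, ?_⟩
  obtain ⟨hm1, hm2⟩ := moves_nn hn hsur hc hodd hN i
  show (σ (nn i * nn i) : GL chevF4.Idx K) ∈ chevF4.diagonalSubgroup K
  rw [map_mul]
  refine (coreF4 K).mem_diagonal_of_moves_one (mul_mem hm1 hm1) ?_
  have h := ChevCore.Moves.mul (coreF4 K) hm2 hm2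
  rwa [← wJ_twPerm hn i, (gensF4 K hn).wJ_mul_self i] at h

theorem conj_liftT_nn (i : Fin 2) {x : Γ} (hx : x ∈ liftT σ) : nn i * x * (nn i)⁻¹ ∈ liftT σ := by
  have key : ∀ k, ∀ y ∈ liftH σ k, nn i * y * (nn i)⁻¹ ∈ liftT σ := by
    intro k y hy
    have hle : ∀ j, liftH σ j ≤ liftT σ := fun j => by
      rcases Fin.exists_fin_two.1 ⟨j, rfl⟩ with e | e <;> rw [e]
      exacts [le_sup_left, le_sup_right]
    have hbr : nn i * y * (nn i)⁻¹ * y⁻¹ ∈ liftH σ i := by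
      refine ⟨?_, ?_⟩
      · rw [show nn i * y * (nn i)⁻¹ * y⁻¹ = nn i * (y * (nn i)⁻¹ * y⁻¹) by group]
        exact mul_mem (hN i).1 (torus_normalizes_liftL hn hsur hc hodd i hy.2 (inv_mem (hN i).1))
      · show σ (nn i * y * (nn i)⁻¹ * y⁻¹) ∈ torSub K m
        rw [map_mul, map_mul, map_mul, map_inv, map_inv]
        exact mul_mem (conj_torSub_nn hn hsur hc hodd hN i hy.2) (inv_mem hy.2)
    have := mul_mem (hle i hbr) (hle k hy)
    rwa [inv_mul_cancel_right] at this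
  exact (sup_le (key 0) (key 1) : liftT σ ≤ (liftT σ).comap (MulAut.conj (nn i)).toMonoidHom) hx

theorem nn_normalizes (i : Fin 2) : nn i ∈ Subgroup.normalizer (liftT σ : Set Γ) := by
  refine Subgroup.mem_normalizer_iff.2 fun x => ⟨conj_liftT_nn hn hsur hc hodd hN i, fun hx => ?_⟩
  have hz : nn i * nn i ∈ liftT σ := by
    rcases Fin.exists_fin_two.1 ⟨i, rfl⟩ with e | e <;> rw [e]
    exacts [le_sup_left (b := liftH σ 1) (sq_nn hn hsur hc hodd hN 0),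
      le_sup_right (a := liftH σ 0) (sq_nn hn hsur hc hodd hN 1)]
  have h2 := mul_mem (mul_mem (inv_mem hz) (conj_liftT_nn hn hsur hc hodd hN i hx)) hz
  rwa [show (nn i * nn i)⁻¹ * (nn i * (nn i * x * (nn i)⁻¹) * (nn i)⁻¹) * (nn i * nn i) = x by
    group] at h2

end CfsgLib.LargeReeMult
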