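import Cfsg.Agent.Lib.LargeReeMult.GoodPairs

/-!
# The multiplier of `²F₄(q)` has no `2`-part
-/

set_option autoImplicit false

namespace CfsgLib.LargeReeMult

open Cfsg.Lie CfsgLib.ChevStr CfsgLib.Twisted CfsgLib.LargeReeAut CfsgLib.TwistAut
open scoped MatrixGroups

variable {K : Type*} [Field K] [Fintype K] [CharP K 2] {m : ℕ}
  (hn : Fintype.card K = 2 * (2 ^ m * 2 ^ m))

omit [Fintype K] [CharP K 2] in
theorem tailG_zero_eq : tailG K m 0 = (pU (twistedF4 K (2 ^ m))).subgroupOf (twistedF4 K (2 ^ m)) := by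
  rw [tailG, tailU_zero]
  exact (Subgroup.inf_subgroupOf_right _ _).symm

theorem isPGroup_tailG_zero : IsPGroup 2 ↥(tailG K m 0) := by
  have : Fact (Nat.Prime 2) := ⟨Nat.prime_two⟩
  rw [tailG_zero_eq]
  exact (isPGroup_pU (C := coreF4 K) (G1 := twistedF4 K (2 ^ m)) 2).comap_of_injective
    (twistedF4 K (2 ^ m)).subtype (twistedF4 K (2 ^ m)).subtype_injective

include hn

theorem tailG_index_odd : ¬ 2 ∣ (tailG K m 0).index := by
  set G1 := twistedF4 K (2 ^ m)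
  have g := gensF4 K hn
  set B := (bor G1).subgroupOf G1
  have h1 := Subgroup.card_mul_index B
  have h2 := Subgroup.card_mul_index (tailG K m 0)
  rw [card_tailG_zero hn, ← h1, Nat.card_congr (Subgroup.subgroupOfEquivOfLe
    (inf_le_right : bor G1 ≤ G1)).toEquiv, card_bor g, card_H1F4 K hn] at h2
  have hU : Nat.card ↥(pU G1) = Fintype.card K ^ 12 := by
    rw [← card_tailG_zero hn, tailG_zero_eq, Nat.card_congr (Subgroup.subgroupOfEquivOfLe
      (inf_le_right : pU G1 ≤ G1)).toEquiv]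
  rw [hU, mul_assoc] at h2
  have h3 := Nat.eq_of_mul_eq_mul_left (pow_pos Fintype.card_pos 12) h2
  rw [h3, Nat.Prime.dvd_mul Nat.prime_two]
  refine not_or.2 ⟨fun h => ?_, not_two_dvd_index hn⟩
  have h4 := Nat.prime_two.dvd_of_dvd_pow h
  have h5 : 2 ∣ Fintype.card K := hn ▸ dvd_mul_right 2 _
  have h6 : 0 < Fintype.card K := Fintype.card_pos
  omega

/-- The Sylow `2`-subgroup. -/
theorem exists_sylow : ∃ S : Sylow 2 ↥(twistedF4 K (2 ^ m)),
    (S : Subgroup ↥(twistedF4 K (2 ^ m))) = tailG K m 0 := by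
  have : Fact (Nat.Prime 2) := ⟨Nat.prime_two⟩
  exact ⟨(isPGroup_tailG_zero (K := K) (m := m)).toSylow (tailG_index_odd hn), rfl⟩

theorem noMultiplierAt_two (hm : 1 ≤ m) :
    CfsgLib.Schur.NoMultiplierAt 2 ↥(twistedF4 K (2 ^ m)) := by
  have : Fact (Nat.Prime 2) := ⟨Nat.prime_two⟩
  obtain ⟨S, hS⟩ := exists_sylow hn
  exact CfsgLib.Schur.noMultiplierAt_of_derived S fun Γ _ _ σ hσ Q hQ z hz hzQ _ =>
    derived_inf_kerF4 hn hm hσ.1 hσ.2.1 (Q := Q) (hQ.le.trans hS.le) hz hzQ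

end CfsgLib.LargeReeMult
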